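import Mathlib.LinearAlgebra.Projection
import Mathlib.LinearAlgebra.FreeModule.Basic
import Mathlib.RingTheory.Finiteness.Basic
import Mathlib.LinearAlgebra.Finsupp.Supported

/-!
Elementary facts on split injections of modules.
-/

set_option autoImplicit false
universe u v w

namespace K65.SplitBasics

variable {R : Type u} [CommRing R] {A : Type v} [AddCommGroup A] [Module R A]
  {B : Type w} [AddCommGroup B] [Module R B]

/-- If `r ∘ i = id`, the range of `i` and the kernel of `r` are complementary. -/
theorem isCompl_range_ker (i : A →ₗ[R] B) (r : B →ₗ[R] A) (h : r ∘ₗ i = LinearMap.id) :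
    IsCompl (LinearMap.range i) (LinearMap.ker r) := by
  have h' : ∀ a, r (i a) = a := fun a => LinearMap.congr_fun h a
  constructor
  · rw [Submodule.disjoint_def]
    rintro _ ⟨a, rfl⟩ h2
    rw [LinearMap.mem_ker, h'] at h2
    rw [h2, map_zero]
  · rw [codisjoint_iff, eq_top_iff]
    rintro b -
    rw [Submodule.mem_sup]
    refine ⟨i (r b), ⟨r b, rfl⟩, b - i (r b), ?_, by abel⟩
    rw [LinearMap.mem_ker, map_sub, h', sub_self]

/-- If `r ∘ i = id`, then `B ≃ A × ker r`. -/
noncomputable def equivProdKer (i : A →ₗ[R] B) (r : B →ₗ[R] A) (h : r ∘ₗ i = LinearMap.id) :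
    (A × LinearMap.ker r) ≃ₗ[R] B :=
  LinearEquiv.ofBijective (LinearMap.coprod i (LinearMap.ker r).subtype) (by
    have h' : ∀ a, r (i a) = a := fun a => LinearMap.congr_fun h a
    constructor
    · rw [← LinearMap.ker_eq_bot, LinearMap.ker_eq_bot']
      rintro ⟨a, k⟩ hk
      rw [LinearMap.coprod_apply] at hk
      have h1 : r (i a + (LinearMap.ker r).subtype k) = 0 := by rw [hk, map_zero]
      have h2 : r ((LinearMap.ker r).subtype k) = 0 := k.2
      rw [map_add, h2, h', add_zero] at h1
      subst h1
      rw [map_zero, zero_add] at hk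
      have h3 : k = 0 := Subtype.ext hk
      rw [h3]; rfl
    · intro b
      refine ⟨(r b, ⟨b - i (r b), ?_⟩), ?_⟩
      · rw [LinearMap.mem_ker, map_sub, h', sub_self]
      · rw [LinearMap.coprod_apply]
        show i (r b) + (b - i (r b)) = b
        abel)

theorem free_range (i : A →ₗ[R] B) (r : B →ₗ[R] A) (h : r ∘ₗ i = LinearMap.id)
    [Module.Free R A] : Module.Free R (LinearMap.range i) :=
  Module.Free.of_equiv (LinearEquiv.ofInjective i
    (Function.LeftInverse.injective (g := r) (fun a => LinearMap.congr_fun h a)))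

theorem finite_range (i : A →ₗ[R] B) [Module.Finite R A] :
    Module.Finite R (LinearMap.range i) := inferInstance

end K65.SplitBasics
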