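import Groth.Agent.CAlg.K65.BassLemma
import Groth.Agent.S7109
import Mathlib.LinearAlgebra.DFinsupp
import Mathlib.Algebra.DirectSum.Module
import Mathlib.LinearAlgebra.DirectSum.Basis
import Mathlib.Algebra.Module.Submodule.Equiv

/-!
Elements of "infinite rank" projective modules lie in finite free direct summands; countably
generated such modules are free.
-/

set_option autoImplicit false
universe u v w

namespace K65.BassFree

open K65.SplitBasics K65.BassLemma

variable {R : Type u} [CommRing R]

theorem descend [IsNoetherianRing (R ⧸ (⊥ : Ideal R).jacobson)] {P : Type u} [AddCommGroup P]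
    [Module R P] [Module.Projective R P] (hP : InfRank R P)
    {K : Type u} [AddCommGroup K] [Module R K] [Module.Finite R K] (k : K) (s : P) :
    ∀ (n : ℕ) (i : K →ₗ[R] ((Fin n → R) × P)) (r : ((Fin n → R) × P) →ₗ[R] K)
      (_ : r ∘ₗ i = LinearMap.id) (_ : i k = (0, s)),
    ∃ (i' : K →ₗ[R] P) (r' : P →ₗ[R] K), r' ∘ₗ i' = LinearMap.id ∧ i' k = s := by
  intro n
  induction n with
  | zero =>
    intro i r hri hk
    refine ⟨LinearMap.snd R _ _ ∘ₗ i, r ∘ₗ LinearMap.inr R _ _, ?_, ?_⟩
    · apply LinearMap.ext
      intro x
      show r (0, (i x).2) = x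
      have h1 : ((0, (i x).2) : (Fin 0 → R) × P) = i x := Prod.ext (Subsingleton.elim _ _) rfl
      rw [h1]
      exact LinearMap.congr_fun hri x
    · show (i k).2 = s
      rw [hk]
  | succ n ih =>
    intro i r hri hk
    let e : (R × ((Fin n → R) × P)) ≃ₗ[R] ((Fin (n + 1) → R) × P) :=
      (LinearEquiv.prodAssoc R R (Fin n → R) P).symm.trans
        ((Fin.consLinearEquiv R (fun _ : Fin (n + 1) => R)).prodCongr (LinearEquiv.refl R P))
    have hinf : InfRank R ((Fin n → R) × P) :=
      hP.of_surjective (LinearMap.snd R _ _) LinearMap.snd_surjective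
    have he : e (0, (0, s)) = ((0, s) : (Fin (n + 1) → R) × P) := by
      apply Prod.ext
      · show (Fin.cons (0 : R) (0 : Fin n → R) : Fin (n + 1) → R) = 0
        funext j
        refine Fin.cases rfl (fun j => rfl) j
      · rfl
    obtain ⟨i', r', h1, h2⟩ := step hinf (e.symm.toLinearMap ∘ₗ i) (r ∘ₗ e.toLinearMap) (by
        apply LinearMap.ext
        intro x
        show r (e (e.symm (i x))) = x
        rw [LinearEquiv.apply_symm_apply]
        exact LinearMap.congr_fun hri x) ((0, s) : (Fin n → R) × P) k (by
        show e.symm (i k) = _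
        rw [hk, ← he, LinearEquiv.symm_apply_apply])
    exact ih i' r' h1 h2

/-- Every element of an "infinite rank" projective module lies in a finite free direct summand. -/
theorem exists_free_summand [IsNoetherianRing (R ⧸ (⊥ : Ideal R).jacobson)] {P : Type u}
    [AddCommGroup P] [Module R P] [Module.Projective R P] (hP : InfRank R P) (s : P) :
    ∃ (K : Type u) (_ : AddCommGroup K) (_ : Module R K) (_ : Module.Finite R K)
      (_ : Module.Free R K) (i : K →ₗ[R] P) (r : P →ₗ[R] K) (k : K),
      r ∘ₗ i = LinearMap.id ∧ i k = s := by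
  obtain ⟨n, K, K', hc, hfree, hfin, hs⟩ := Groth.Agent.S7109.result R P s
  let pr : ((Fin n → R) × P) →ₗ[R] K := Submodule.projectionOnto K K' hc
  obtain ⟨i', r', h1, h2⟩ := descend hP (⟨(0, s), hs⟩ : K) s n K.subtype pr (by
      apply LinearMap.ext
      intro x
      exact Submodule.projectionOnto_apply_left hc x) rfl
  exact ⟨K, inferInstance, inferInstance, hfin, hfree, i', r', _, h1, h2⟩

/-- A version with an invariant of `Groth.Agent.CalgA.ProjLocal.exists_internal_of_step`. -/
theorem exists_internal_of_step {P : Type v} [AddCommGroup P] [Module R P]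
    (good : Submodule R P → Prop) (inv : Module.End R P → Prop) (hinv0 : inv 0)
    (hstep : ∀ (e : Module.End R P) (x : P), e * e = e → inv e →
      ∃ f : Module.End R P, f * f = f ∧ e * f = 0 ∧ f * e = 0 ∧ good (LinearMap.range f) ∧
        (e + f) x = x ∧ inv (e + f))
    (hP : ∃ s : Set P, s.Countable ∧ Submodule.span R s = ⊤) :
    ∃ L : ℕ → Submodule R P, iSupIndep L ∧ iSup L = ⊤ ∧ ∀ n, good (L n) := by
  obtain ⟨s, hs, hspan⟩ := hP
  obtain ⟨x, hx⟩ := (hs.union (Set.countable_singleton (0 : P))).exists_eq_range
    ⟨0, Or.inr rfl⟩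
  have hspan' : Submodule.span R (Set.range x) = ⊤ := by
    rw [eq_top_iff, ← hspan, ← hx]
    exact Submodule.span_mono Set.subset_union_left
  choose! f hf1 hf2 hf3 hf4 hf5 hf6 using hstep
  let E : ℕ → Module.End R P := fun n => Nat.rec 0 (fun n e => e + f e (x n)) n
  have hE0 : E 0 = 0 := rfl
  have hEs : ∀ n, E (n+1) = E n + f (E n) (x n) := fun n => rfl
  have hEI : ∀ n, E n * E n = E n ∧ inv (E n) := by
    intro n
    induction n with
    | zero => exact ⟨by rw [hE0, zero_mul], hinv0⟩
    | succ n ih =>
      refine ⟨?_, ?_⟩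
      · rw [hEs, add_mul, mul_add, mul_add, ih.1, hf1 _ _ ih.1 ih.2, hf2 _ _ ih.1 ih.2,
          hf3 _ _ ih.1 ih.2]
        simp
      · rw [hEs]; exact hf6 _ _ ih.1 ih.2
  have hE : ∀ n, E n * E n = E n := fun n => (hEI n).1
  have hI : ∀ n, inv (E n) := fun n => (hEI n).2
  let F : ℕ → Module.End R P := fun n => f (E n) (x n)
  have hFF : ∀ n, F n * F n = F n := fun n => hf1 _ _ (hE n) (hI n)
  have hEF : ∀ n, E n * F n = 0 := fun n => hf2 _ _ (hE n) (hI n)
  have hFE : ∀ n, F n * E n = 0 := fun n => hf3 _ _ (hE n) (hI n)
  have hEs' : ∀ n, E (n+1) = E n + F n := fun n => rfl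
  have hlt : ∀ m k, E (m + 1 + k) * F m = F m ∧ F m * E (m + 1 + k) = F m := by
    intro m k
    induction k with
    | zero =>
      rw [add_zero, hEs', add_mul, mul_add, hEF, hFE, hFF]
      simp
    | succ k ih =>
      have h1 : F (m + 1 + k) * F m = 0 := by
        rw [← ih.1, ← mul_assoc, hFE, zero_mul]
      have h2 : F m * F (m + 1 + k) = 0 := by
        rw [← ih.2, mul_assoc, hEF, mul_zero]
      rw [show m + 1 + (k + 1) = (m + 1 + k) + 1 from rfl, hEs', add_mul, mul_add, ih.1, ih.2, h1, h2]
      simp
  have horth : ∀ m n, m ≠ n → F m * F n = 0 := by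
    intro m n hmn
    rcases lt_or_gt_of_ne hmn with h | h
    · obtain ⟨k, rfl⟩ := Nat.exists_eq_add_of_le (Nat.succ_le_of_lt h)
      rw [← (hlt m k).2, mul_assoc, hEF, mul_zero]
    · obtain ⟨k, rfl⟩ := Nat.exists_eq_add_of_le (Nat.succ_le_of_lt h)
      rw [← (hlt n k).1, ← mul_assoc, hFE, zero_mul]
  refine ⟨fun n => LinearMap.range (F n), ?_, ?_, fun n => hf4 _ _ (hE n) (hI n)⟩
  · intro n
    rw [Submodule.disjoint_def]
    rintro _ ⟨y, rfl⟩ h2
    have h3 : (⨆ (j) (_ : j ≠ n), LinearMap.range (F j)) ≤ LinearMap.ker (F n) := by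
      apply iSup₂_le
      rintro j hj _ ⟨z, rfl⟩
      rw [LinearMap.mem_ker, ← Module.End.mul_apply, horth n j hj.symm]
      rfl
    have h4 := h3 h2
    rw [LinearMap.mem_ker, ← Module.End.mul_apply, hFF] at h4
    exact h4
  · rw [eq_top_iff, ← hspan', Submodule.span_le]
    rintro _ ⟨n, rfl⟩
    have h1 : ∀ n y, E n y ∈ ⨆ n, LinearMap.range (F n) := by
      intro n
      induction n with
      | zero => intro y; rw [hE0]; exact Submodule.zero_mem _
      | succ n ih =>
        intro y
        rw [hEs', LinearMap.add_apply]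
        exact Submodule.add_mem _ (ih y) (Submodule.mem_iSup_of_mem n ⟨y, rfl⟩)
    have h2 : E (n+1) (x n) = x n := hf5 _ _ (hE n) (hI n)
    have h3 := h1 (n+1) (x n)
    rw [h2] at h3
    exact h3

/-- Bass: a countably generated "infinite rank" projective module is free. -/
theorem free_of_countable [IsNoetherianRing (R ⧸ (⊥ : Ideal R).jacobson)] {P : Type u}
    [AddCommGroup P] [Module R P] [Module.Projective R P] (hinf : InfRank R P)
    (hP : ∃ s : Set P, s.Countable ∧ Submodule.span R s = ⊤) : Module.Free R P := by
  classical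
  obtain ⟨L, hL1, hL2, hL3⟩ := exists_internal_of_step
    (fun N : Submodule R P => Module.Free R N)
    (fun e : Module.End R P => Module.Finite R (LinearMap.range e))
    (by
      have h0 : LinearMap.range (0 : Module.End R P) = ⊥ := LinearMap.range_zero
      show Module.Finite R (LinearMap.range (0 : Module.End R P))
      rw [h0]
      infer_instance) (by
      intro e x he hefin
      let g : Module.End R P := 1 - e
      have hg : g * g = g := by
        simp only [g, sub_mul, mul_sub, he, one_mul, mul_one, sub_self, sub_zero]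
      have hge : g * e = 0 := by simp only [g, sub_mul, he, one_mul, sub_self]
      have heg : e * g = 0 := by simp only [g, mul_sub, he, mul_one, sub_self]
      have hgr : ∀ y : LinearMap.range g, g y = y := by
        rintro ⟨_, ⟨z, rfl⟩⟩
        show (g * g) z = g z
        rw [hg]
      have h1 : g.rangeRestrict ∘ₗ (LinearMap.range g).subtype = LinearMap.id := by
        ext y
        exact hgr y
      have hproj : Module.Projective R (LinearMap.range g) := Module.Projective.of_split _ _ h1
      -- the complement has infinite rank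
      have her : e.rangeRestrict ∘ₗ (LinearMap.range e).subtype = LinearMap.id := by
        ext ⟨_, ⟨z, rfl⟩⟩
        show (e * e) z = e z
        rw [he]
      have hinf1 : InfRank R (LinearMap.ker e.rangeRestrict) :=
        hinf.ker (LinearMap.range e).subtype e.rangeRestrict her
      have hkr : LinearMap.range g = LinearMap.ker e.rangeRestrict := by
        ext y
        constructor
        · rintro ⟨z, rfl⟩
          rw [LinearMap.mem_ker]
          apply Subtype.ext
          show (e * g) z = 0
          rw [heg]; rfl
        · intro hy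
          refine ⟨y, ?_⟩
          have h2 : e y = 0 := congrArg Subtype.val (LinearMap.mem_ker.1 hy)
          show y - e y = y
          rw [h2, sub_zero]
      have hinf2 : InfRank R (LinearMap.range g) := by rw [hkr]; exact hinf1
      obtain ⟨K, _, _, hKfin, hKfree, φ, r, k, hφr, hk⟩ :=
        exists_free_summand hinf2 (g.rangeRestrict x)
      have hx : φ (r (g.rangeRestrict x)) = g.rangeRestrict x := by
        rw [← hk]
        rw [show r (φ k) = k from LinearMap.congr_fun hφr k]
      let φ' : K →ₗ[R] P := (LinearMap.range g).subtype ∘ₗ φ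
      let r' : P →ₗ[R] K := r ∘ₗ g.rangeRestrict
      have h2 : r' ∘ₗ φ' = LinearMap.id := by
        show r ∘ₗ (g.rangeRestrict ∘ₗ (LinearMap.range g).subtype) ∘ₗ φ = LinearMap.id
        rw [h1, LinearMap.id_comp, hφr]
      have h3 : ∀ y, g (φ' y) = φ' y := fun y => hgr (φ y)
      have h4 : ∀ y, r' (e y) = 0 := by
        intro y
        show r (g.rangeRestrict (e y)) = 0
        have h5 : g.rangeRestrict (e y) = 0 := by
          apply Subtype.ext
          show (g * e) y = 0
          rw [hge]; rfl
        rw [h5, map_zero]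
      have h6 : ∀ y, e (φ' y) = 0 := by
        intro y
        rw [← h3 y]
        show (e * g) (φ' y) = 0
        rw [heg]; rfl
      have h7 : ∀ y, r' (φ' y) = y := fun y => LinearMap.congr_fun h2 y
      have h8 : LinearMap.range (φ' ∘ₗ r') = LinearMap.range φ' := by
        apply LinearMap.range_comp_of_range_eq_top
        rw [LinearMap.range_eq_top]
        intro y
        exact ⟨φ' y, h7 y⟩
      have hfr : Module.Free R (LinearMap.range (φ' ∘ₗ r')) := by
        rw [h8]
        exact Module.Free.of_equiv
          (LinearEquiv.ofInjective φ' (Function.LeftInverse.injective h7))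
      refine ⟨φ' ∘ₗ r', ?_, ?_, ?_, hfr, ?_, ?_⟩
      · apply LinearMap.ext
        intro y
        show φ' (r' (φ' (r' y))) = φ' (r' y)
        rw [h7]
      · apply LinearMap.ext
        intro y
        exact h6 _
      · apply LinearMap.ext
        intro y
        show φ' (r' (e y)) = 0
        rw [h4, map_zero]
      · show e x + φ' (r' x) = x
        have h9 : φ' (r' x) = g x := by
          show ((φ (r (g.rangeRestrict x)) : LinearMap.range g) : P) = g x
          rw [hx]; rfl
        rw [h9]
        simp [g]
      · have h9 : LinearMap.range (e + φ' ∘ₗ r') ≤ LinearMap.range e ⊔ LinearMap.range φ' := by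
          rintro _ ⟨y, rfl⟩
          exact Submodule.add_mem_sup ⟨y, rfl⟩ ⟨r' y, rfl⟩
        have h10 : LinearMap.range (e + φ' ∘ₗ r') = LinearMap.range e ⊔ LinearMap.range φ' := by
          apply le_antisymm h9
          apply sup_le
          · rintro _ ⟨y, rfl⟩
            refine ⟨e y, ?_⟩
            show e (e y) + φ' (r' (e y)) = e y
            rw [h4, map_zero, add_zero]
            show (e * e) y = e y
            rw [he]
          · rintro _ ⟨y, rfl⟩
            refine ⟨φ' y, ?_⟩
            show e (φ' y) + φ' (r' (φ' y)) = φ' y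
            rw [h6, h7, zero_add]
        show Module.Finite R (LinearMap.range (e + φ' ∘ₗ r'))
        rw [h10]
        infer_instance) hP
  have hint : DirectSum.IsInternal L :=
    DirectSum.isInternal_submodule_of_iSupIndep_of_iSup_eq_top hL1 hL2
  have := hL3
  exact Module.Free.of_equiv (LinearEquiv.ofBijective (DirectSum.coeLinearMap L) hint)

end K65.BassFree
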