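import Groth.Agent.CalgA.ProjLocal
import Groth.Agent.CAlg.K65.SplitBasics
import Mathlib.RingTheory.Noetherian.Basic
import Mathlib.RingTheory.Jacobson.Ideal
import Mathlib.RingTheory.Ideal.Maps
import Mathlib.RingTheory.Ideal.Quotient.Operations
import Mathlib.Algebra.Module.Projective
import Mathlib.LinearAlgebra.Dual.Defs

/-!
Bass's lemma on unimodular elements in "infinite rank" projective modules.
-/

set_option autoImplicit false
universe u v w

namespace K65.BassLemma

open K65.SplitBasics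

section

variable {R : Type u} [CommRing R] {P : Type v} [AddCommGroup P] [Module R P]

/-- An element of a projective module all of whose coordinates are in `I` is in `I P`. -/
theorem mem_smul_top_of_forall [Module.Projective R P] (I : Ideal R) (x : P)
    (h : ∀ φ : P →ₗ[R] R, φ x ∈ I) : x ∈ (I • ⊤ : Submodule R P) := by
  obtain ⟨n, g, y, hxy⟩ := Groth.Agent.CalgA.ProjLocal.exists_repr (R := R) x
  rw [hxy]
  exact Submodule.sum_mem _ (fun i _ => Submodule.smul_mem_smul (h (g i)) Submodule.mem_top)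

variable (R P) in
/-- "Infinite rank everywhere": no finitely generated submodule is everything modulo a maximal
ideal. -/
def InfRank : Prop :=
  ∀ (m : Ideal R), m.IsMaximal → ∀ F : Submodule R P, F.FG → F ⊔ (m • ⊤ : Submodule R P) ≠ ⊤

theorem InfRank.of_surjective {P' : Type w} [AddCommGroup P'] [Module R P'] (h : InfRank R P)
    (f : P' →ₗ[R] P) (hf : Function.Surjective f) : InfRank R P' := by
  intro m hm F hF htop
  apply h m hm (F.map f) (hF.map f)
  have h1 := congrArg (Submodule.map f) htop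
  rw [Submodule.map_sup, Submodule.map_smul'', Submodule.map_top, LinearMap.range_eq_top.2 hf] at h1
  exact h1

theorem InfRank.ker {K : Type w} [AddCommGroup K] [Module R K] [Module.Finite R K]
    (h : InfRank R P) (i : K →ₗ[R] P) (r : P →ₗ[R] K) (hri : r ∘ₗ i = LinearMap.id) :
    InfRank R (LinearMap.ker r) := by
  intro m hm F hF htop
  have hK : (LinearMap.range i).FG := by
    rw [LinearMap.range_eq_map]; exact Submodule.FG.map _ Module.Finite.fg_top
  apply h m hm (LinearMap.range i ⊔ F.map (LinearMap.ker r).subtype)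
    (hK.sup (hF.map _))
  rw [eq_top_iff]
  have h2 : LinearMap.ker r ≤ F.map (LinearMap.ker r).subtype ⊔ (m • ⊤ : Submodule R P) := by
    have h1 := congrArg (Submodule.map (LinearMap.ker r).subtype) htop
    rw [Submodule.map_sup, Submodule.map_smul'', Submodule.map_top, Submodule.range_subtype] at h1
    exact h1.ge.trans (sup_le_sup_left (Submodule.smul_mono le_rfl le_top) _)
  rw [sup_assoc]
  refine le_trans ?_ (sup_le_sup_left h2 _)
  rw [(isCompl_range_ker i r hri).sup_eq_top]

end

section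

variable {R : Type u} [CommRing R] {P : Type v} [AddCommGroup P] [Module R P]
  [Module.Projective R P]

theorem isNoetherian_of_quot (J : Ideal R) [IsNoetherianRing (R ⧸ J)] : IsNoetherian R (R ⧸ J) := by
  constructor
  intro N
  let N' : Submodule (R ⧸ J) (R ⧸ J) :=
    { N with
      smul_mem' := fun c x hx => by
        obtain ⟨c, rfl⟩ := Ideal.Quotient.mk_surjective c
        exact N.smul_mem c hx }
  have h1 : N'.FG := IsNoetherian.noetherian N'
  have h2 : (N'.restrictScalars R).FG :=
    h1.restrictScalars_of_surjective Ideal.Quotient.mk_surjective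
  have h3 : N'.restrictScalars R = N := rfl
  rwa [h3] at h2

/-- Bass's lemma. -/
theorem exists_unimodular [IsNoetherianRing (R ⧸ (⊥ : Ideal R).jacobson)] (hP : InfRank R P)
    (s : P) (M : Submodule R P) (hM : Submodule.span R {s} ⊔ M = ⊤) :
    ∃ m ∈ M, ∃ φ : P →ₗ[R] R, φ (s + m) = 1 := by
  classical
  let J := (⊥ : Ideal R).jacobson
  let mk : R →+* R ⧸ J := Ideal.Quotient.mk J
  have hmk : Function.Surjective mk := Ideal.Quotient.mk_surjective
  -- order ideals
  let O : P → Ideal R := fun x => LinearMap.range ((LinearMap.applyₗ x : (P →ₗ[R] R) →ₗ[R] R))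
  have hO : ∀ x r, r ∈ O x ↔ ∃ φ : P →ₗ[R] R, φ x = r := fun x r => Iff.rfl
  let O' : P → Ideal (R ⧸ J) := fun x => (O x).map mk
  have hO' : ∀ x r, r ∈ O' x ↔ ∃ φ : P →ₗ[R] R, mk (φ x) = r := by
    intro x r
    rw [Ideal.mem_map_iff_of_surjective mk hmk]
    constructor
    · rintro ⟨y, ⟨φ, rfl⟩, rfl⟩; exact ⟨φ, rfl⟩
    · rintro ⟨φ, rfl⟩; exact ⟨_, ⟨φ, rfl⟩, rfl⟩
  obtain ⟨I, ⟨m0, hm0, rfl⟩, hmax⟩ := (set_has_maximal_iff_noetherian (R := R ⧸ J) (M := R ⧸ J)).2
    inferInstance {I | ∃ m ∈ M, I = O' (s + m)} ⟨_, ⟨0, M.zero_mem, rfl⟩⟩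
  have hcomax : O' (s + m0) = ⊤ := by
    by_contra hne
    obtain ⟨pbar, hpbar, hple⟩ := Ideal.exists_le_maximal _ hne
    let p : Ideal R := pbar.comap mk
    have hp : p.IsMaximal := Ideal.comap_isMaximal_of_surjective mk hmk
    -- finitely many functionals
    obtain ⟨t, ht⟩ : (O' (s + m0)).FG := IsNoetherian.noetherian _
    have hφ : ∀ c : t, ∃ φ : P →ₗ[R] R, mk (φ (s + m0)) = c := fun c =>
      (hO' _ _).1 (ht ▸ Submodule.subset_span c.2)
    choose φ hφ using hφ
    let ψ : P →ₗ[R] (t → R ⧸ J) := LinearMap.pi (fun c => (Submodule.mkQ J) ∘ₗ φ c)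
    have hex : ∃ m ∈ M, ψ m = 0 ∧ m ∉ (p • ⊤ : Submodule R P) := by
      by_contra hcon
      push Not at hcon
      have hnoeth : IsNoetherian R (R ⧸ J) := isNoetherian_of_quot J
      obtain ⟨t', ht'⟩ : (M.map ψ).FG := IsNoetherian.noetherian _
      have h1 : ∀ c : t', ∃ m ∈ M, ψ m = c := fun c => by
        have h2 : (c : t → R ⧸ J) ∈ M.map ψ := ht' ▸ Submodule.subset_span c.2
        exact h2
      choose μ hμM hμ using h1
      have h3 : M ≤ Submodule.span R (Set.range μ) ⊔ (p • ⊤ : Submodule R P) := by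
        intro y hy
        have h4 : ψ y ∈ Submodule.map ψ (Submodule.span R (Set.range μ)) := by
          rw [Submodule.map_span, ← Set.range_comp]
          have h5 : Set.range (ψ ∘ μ) = t' := by
            ext z
            constructor
            · rintro ⟨c, rfl⟩
              show ψ (μ c) ∈ _
              rw [hμ]; exact c.2
            · intro hz
              exact ⟨⟨z, hz⟩, hμ _⟩
          rw [h5, ht']
          exact ⟨y, hy, rfl⟩
        obtain ⟨z, hz, hzy⟩ := h4
        have hzM : z ∈ M := by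
          have : Submodule.span R (Set.range μ) ≤ M := by
            rw [Submodule.span_le]; rintro _ ⟨c, rfl⟩; exact hμM c
          exact this hz
        rw [Submodule.mem_sup]
        refine ⟨z, hz, y - z, hcon _ (M.sub_mem hy hzM) (by rw [map_sub, hzy, sub_self]), by abel⟩
      apply hP p hp (Submodule.span R {s} ⊔ Submodule.span R (Set.range μ))
        ((Submodule.fg_span (Set.finite_singleton _)).sup
          (Submodule.fg_span (Set.finite_range _)))
      rw [eq_top_iff, sup_assoc]
      exact hM.ge.trans (sup_le_sup_left h3 _)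
    obtain ⟨m, hmM, hψm, hmp⟩ := hex
    have hle : O' (s + m0) ≤ O' (s + (m0 + m)) := by
      rw [← ht]
      show Submodule.span _ _ ≤ _
      rw [Submodule.span_le]
      intro c hc
      show c ∈ O' (s + (m0 + m))
      rw [hO']
      refine ⟨φ ⟨c, hc⟩, ?_⟩
      have h6 : mk (φ ⟨c, hc⟩ m) = 0 := congrFun hψm ⟨c, hc⟩
      rw [← add_assoc, map_add, map_add, h6, add_zero]
      exact hφ ⟨c, hc⟩
    have heq : O' (s + m0) = O' (s + (m0 + m)) := by
      by_contra hne2
      exact hmax _ ⟨m0 + m, M.add_mem hm0 hmM, rfl⟩ (lt_of_le_of_ne hle hne2)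
    apply hmp
    apply mem_smul_top_of_forall
    intro χ
    have h7 : χ (s + m0) ∈ p := hple ((hO' _ _).2 ⟨χ, rfl⟩)
    have h8 : χ (s + (m0 + m)) ∈ p := by
      have : mk (χ (s + (m0 + m))) ∈ O' (s + m0) := by rw [heq, hO']; exact ⟨χ, rfl⟩
      exact hple this
    have h9 : χ m = χ (s + (m0 + m)) - χ (s + m0) := by rw [← map_sub]; congr 1; abel
    rw [h9]
    exact p.sub_mem h8 h7
  have h1 : (1 : R ⧸ J) ∈ O' (s + m0) := by rw [hcomax]; trivial
  obtain ⟨φ, hφ⟩ := (hO' _ _).1 h1
  have h2 : IsUnit (φ (s + m0)) := by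
    have h3 : φ (s + m0) - 1 ∈ J := by
      rw [← Ideal.Quotient.eq_zero_iff_mem, map_sub, map_one, sub_eq_zero]
      exact hφ
    rw [Ideal.mem_jacobson_bot] at h3
    have h4 := h3 1
    rwa [mul_one, sub_add_cancel] at h4
  obtain ⟨w, hw⟩ := h2
  refine ⟨m0, hm0, (↑w⁻¹ : R) • φ, ?_⟩
  rw [LinearMap.smul_apply, ← hw, smul_eq_mul, Units.inv_mul]

/-- The induction step: removing a free rank one summand. -/
theorem step [IsNoetherianRing (R ⧸ (⊥ : Ideal R).jacobson)] (hP : InfRank R P)
    {K : Type v} [AddCommGroup K] [Module R K] [Module.Finite R K]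
    (i : K →ₗ[R] (R × P)) (r : (R × P) →ₗ[R] K) (hri : r ∘ₗ i = LinearMap.id)
    (s : P) (k : K) (hk : i k = (0, s)) :
    ∃ (i' : K →ₗ[R] P) (r' : P →ₗ[R] K), r' ∘ₗ i' = LinearMap.id ∧ i' k = s := by
  let L := LinearMap.ker r
  let πL : (R × P) →ₗ[R] L := LinearMap.codRestrict L (LinearMap.id - i ∘ₗ r) (by
    intro z
    show r (z - i (r z)) = 0
    rw [map_sub, show r (i (r z)) = r z from LinearMap.congr_fun hri (r z), sub_self])
  have hπL : Function.Surjective πL := by
    rintro ⟨z, hz⟩
    refine ⟨z, Subtype.ext ?_⟩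
    show z - i (r z) = z
    rw [show r z = 0 from hz, map_zero, sub_zero]
  have hπLs : πL ∘ₗ L.subtype = LinearMap.id := by
    apply LinearMap.ext
    rintro ⟨z, hz⟩
    apply Subtype.ext
    show z - i (r z) = z
    rw [show r z = 0 from hz, map_zero, sub_zero]
  have hproj : Module.Projective R L := Module.Projective.of_split L.subtype πL hπLs
  have hinf : InfRank R L := (hP.of_surjective (LinearMap.snd R R P) LinearMap.snd_surjective).ker i r hri
  have hi0 : ∀ k, πL (i k) = 0 := by
    intro k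
    apply Subtype.ext
    show i k - i (r (i k)) = 0
    rw [show r (i k) = k from LinearMap.congr_fun hri k, sub_self]
  obtain ⟨m, hm, φ, hφ⟩ := exists_unimodular hinf (πL (1, 0))
    (LinearMap.range (πL ∘ₗ LinearMap.inr R R P)) (by
      rw [eq_top_iff]
      rintro z -
      obtain ⟨⟨a, q⟩, rfl⟩ := hπL z
      rw [Submodule.mem_sup]
      refine ⟨a • πL (1, 0), Submodule.smul_mem _ _ (Submodule.mem_span_singleton_self _),
        πL (0, q), ⟨q, rfl⟩, ?_⟩
      rw [← map_smul, ← map_add]
      congr 1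
      simp)
  obtain ⟨p, rfl⟩ := hm
  let t : R × P := (1, p)
  let Φ : (R × P) →ₗ[R] R := φ ∘ₗ πL
  have hΦt : Φ t = 1 := by
    rw [← hφ]
    show φ (πL (1, p)) = φ (πL (1, 0) + πL (0, p))
    rw [← map_add]
    congr 2
    simp
  have hΦi : ∀ k, Φ (i k) = 0 := by
    intro k
    show φ (πL (i k)) = 0
    rw [hi0, map_zero]
  let ρ : (R × P) →ₗ[R] P := LinearMap.snd R R P - (LinearMap.toSpanSingleton R P p) ∘ₗ LinearMap.fst R R P
  let r1 : (R × P) →ₗ[R] K := r - (LinearMap.toSpanSingleton R K (r t)) ∘ₗ Φ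
  have hr1t : r1 t = 0 := by
    show r t - Φ t • r t = 0
    rw [hΦt, one_smul, sub_self]
  have hr1i : ∀ k, r1 (i k) = k := by
    intro k
    show r (i k) - Φ (i k) • r t = k
    rw [hΦi, zero_smul, sub_zero]
    exact LinearMap.congr_fun hri k
  have hr1 : ∀ z, r1 (0, ρ z) = r1 z := by
    intro z
    have h1 : ((0, ρ z) : R × P) = z - z.1 • t := by
      apply Prod.ext
      · show (0 : R) = z.1 - z.1 * 1
        rw [mul_one, sub_self]
      · rfl
    rw [h1, map_sub, map_smul, hr1t, smul_zero, sub_zero]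
  refine ⟨ρ ∘ₗ i, r1 ∘ₗ LinearMap.inr R R P, ?_, ?_⟩
  · apply LinearMap.ext
    intro k
    show r1 (0, ρ (i k)) = k
    rw [hr1, hr1i]
  · show ρ (i k) = s
    rw [hk]
    show s - (0 : R) • p = s
    rw [zero_smul, sub_zero]

end

end K65.BassLemma
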