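import Groth.Agent.CAlg.K65.BassLemma
import Groth.Agent.S0582
import Mathlib.RingTheory.Localization.AtPrime.Basic
import Mathlib.Algebra.Module.LocalizedModule.Basic
import Mathlib.RingTheory.LocalProperties.Projective
import Mathlib.RingTheory.Finiteness.Basic

/-!
"Infinite rank everywhere" in terms of localizations at maximal ideals.
-/

set_option autoImplicit false
universe u v w

namespace K65.BassLocal

open K65.SplitBasics K65.BassLemma

/-- A free module over a local ring which is finite modulo the maximal ideal is finite. -/
theorem finite_of_sup_eq_top (R : Type u) [CommRing R] [IsLocalRing R] (P : Type v)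
    [AddCommGroup P] [Module R P] [Module.Free R P] (F : Submodule R P) (hF : F.FG)
    (h : F ⊔ (IsLocalRing.maximalIdeal R • ⊤ : Submodule R P) = ⊤) : Module.Finite R P := by
  classical
  let b := Module.Free.chooseBasis R P
  obtain ⟨T, hT⟩ := hF
  let S : Finset (Module.Free.ChooseBasisIndex R P) := T.biUnion (fun t => (b.repr t).support)
  have hS : ∀ j, j ∈ S := by
    intro j
    by_contra hj
    have h1 : b j ∈ F ⊔ (IsLocalRing.maximalIdeal R • ⊤ : Submodule R P) := by
      rw [h]; exact Submodule.mem_top
    have h2 : F ⊔ (IsLocalRing.maximalIdeal R • ⊤ : Submodule R P) ≤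
        Submodule.comap (b.coord j) (IsLocalRing.maximalIdeal R) := by
      apply sup_le
      · rw [← hT, Submodule.span_le]
        intro t ht
        show b.repr t j ∈ IsLocalRing.maximalIdeal R
        have h3 : b.repr t j = 0 := by
          by_contra h4
          exact hj (Finset.mem_biUnion.2 ⟨t, ht, Finsupp.mem_support_iff.2 h4⟩)
        rw [h3]
        exact Ideal.zero_mem _
      · rw [Submodule.smul_le]
        intro r hr x _
        show b.coord j (r • x) ∈ IsLocalRing.maximalIdeal R
        rw [map_smul, smul_eq_mul]
        exact Ideal.mul_mem_right _ _ hr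
    have h3 : b.coord j (b j) ∈ IsLocalRing.maximalIdeal R := h2 h1
    have h4 : b.coord j (b j) = 1 := by simp
    rw [h4] at h3
    exact (IsLocalRing.mem_maximalIdeal _).1 h3 isUnit_one
  have hfin : Finite (Module.Free.ChooseBasisIndex R P) :=
    Set.finite_univ_iff.1 (Set.Finite.subset S.finite_toSet (fun j _ => hS j))
  exact Module.Finite.of_basis b

theorem infRank_of (R : Type u) [CommRing R]
    (P : Type u) [AddCommGroup P] [Module R P] [Module.Projective R P]
    (hP : ∀ (m : Ideal R) [m.IsMaximal],
      ¬ Module.Finite (Localization.AtPrime m) (LocalizedModule m.primeCompl P)) :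
    InfRank R P := by
  intro m hm F hF htop
  apply hP m
  let R' := Localization.AtPrime m
  let P' := LocalizedModule m.primeCompl P
  let f := LocalizedModule.mkLinearMap m.primeCompl P
  have hproj : Module.Projective R' P' := inferInstance
  have hfree : Module.Free R' P' := Groth.Agent.S0582.result R' P'
  obtain ⟨T, hT⟩ := hF
  apply finite_of_sup_eq_top R' P' (Submodule.span R' (f '' T))
    (Submodule.fg_span (T.finite_toSet.image _))
  let N : Submodule R' P' := Submodule.span R' (f '' T) ⊔ (IsLocalRing.maximalIdeal R' • ⊤ : Submodule R' P')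
  show N = ⊤
  have h1 : ∀ x : P, f x ∈ N := by
    intro x
    have h2 : x ∈ F ⊔ (m • ⊤ : Submodule R P) := by
      rw [htop]; exact Submodule.mem_top
    have h3 : F ⊔ (m • ⊤ : Submodule R P) ≤ (N.restrictScalars R).comap f := by
      apply sup_le
      · rw [← hT, Submodule.span_le]
        intro t ht
        exact Submodule.mem_sup_left (Submodule.subset_span ⟨t, ht, rfl⟩)
      · rw [Submodule.smul_le]
        intro r hr y _
        show f (r • y) ∈ N
        rw [map_smul, ← algebraMap_smul R' r (f y)]
        refine Submodule.mem_sup_right (Submodule.smul_mem_smul ?_ Submodule.mem_top)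
        exact (IsLocalization.AtPrime.to_map_mem_maximal_iff R' m r).2 hr
    exact h3 h2
  rw [eq_top_iff]
  rintro y -
  obtain ⟨⟨x, s⟩, hxs⟩ := IsLocalizedModule.surj m.primeCompl f y
  have h4 : (algebraMap R R' s) • y = f x := by
    rw [algebraMap_smul]; exact hxs
  obtain ⟨w, hw⟩ := IsLocalization.map_units R' s
  have h5 : y = (↑w⁻¹ : R') • f x := by
    rw [← h4, ← hw, smul_smul, Units.inv_mul, one_smul]
  rw [h5]
  exact N.smul_mem _ (h1 x)

end K65.BassLocal
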