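import Mathlib.RingTheory.PrincipalIdealDomain
import Mathlib.RingTheory.Bezout
import Mathlib.Algebra.Module.Torsion.Basic
import Mathlib.LinearAlgebra.Basis.Basic
import Mathlib.LinearAlgebra.Basis.VectorSpace
import Mathlib.LinearAlgebra.Basis.Prod
import Mathlib.LinearAlgebra.FreeModule.Basic
import Mathlib.Algebra.Module.Projective
import Groth.Agent.CAlg.K65.SplitBasics

/-!
Finite torsion free modules over Bézout domains are free.
-/

set_option autoImplicit false
universe u v w

namespace K65.Bezout

open K65.SplitBasics

/-- A finite torsion free module over a domain embeds in a finite free module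
(the proof is the one of `Groth.Agent.Ega4C.ZTransformDev`). -/
theorem exists_injective_fin_of_torsionFree (R : Type u) [CommRing R] [IsDomain R]
    (N : Type v) [AddCommGroup N] [Module R N] [Module.Finite R N]
    (h : ∀ (r : R) (x : N), r • x = 0 → r = 0 ∨ x = 0) :
    ∃ (n : ℕ) (f : N →ₗ[R] (Fin n → R)), Function.Injective f := by
  classical
  obtain ⟨n, s, hs⟩ := Module.Finite.exists_fin (R := R) (M := N)
  obtain ⟨I, indepI, hI⟩ := exists_maximal_linearIndepOn R s
  let N' := Submodule.span R (s '' I)
  have hex : ∀ i, ∃ a : R, a ≠ 0 ∧ a • s i ∈ N' := by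
    intro i
    by_cases hi : i ∈ I
    · exact ⟨1, one_ne_zero, by rw [one_smul]; exact Submodule.subset_span ⟨i, hi, rfl⟩⟩
    · exact hI i hi
  choose a ha ha' using hex
  let b : R := ∏ i, a i
  have hb : b ≠ 0 := Finset.prod_ne_zero_iff.mpr fun i _ => ha i
  have hbN : ∀ x : N, b • x ∈ N' := by
    intro x
    have hx : x ∈ Submodule.span R (Set.range s) := hs ▸ Submodule.mem_top
    induction hx using Submodule.span_induction with
    | mem x hx =>
      obtain ⟨i, rfl⟩ := hx
      have : b = (∏ j ∈ Finset.univ.erase i, a j) * a i := by
        rw [Finset.prod_erase_mul _ _ (Finset.mem_univ i)]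
      rw [this, mul_smul]
      exact Submodule.smul_mem _ _ (ha' i)
    | zero => rw [smul_zero]; exact Submodule.zero_mem _
    | add x y _ _ hx hy => rw [smul_add]; exact Submodule.add_mem _ hx hy
    | smul c x _ hx => rw [smul_comm]; exact Submodule.smul_mem _ _ hx
  have hspan : Submodule.span R (Set.range fun i : I => s i) = N' := by
    congr 1
    ext x
    simp
  let B := Module.Basis.span indepI
  let e : N' ≃ₗ[R] (I → R) := (LinearEquiv.ofEq _ _ hspan.symm).trans B.equivFun
  let g : N →ₗ[R] N' := LinearMap.codRestrict N' (b • LinearMap.id) hbN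
  have hg : Function.Injective g := by
    rw [injective_iff_map_eq_zero]
    intro x hx
    exact (h b x (congrArg Subtype.val hx)).resolve_left hb
  let k := Fintype.card I
  let e' : (I → R) ≃ₗ[R] (Fin k → R) := LinearEquiv.funCongrLeft R R (Fintype.equivFin I).symm
  exact ⟨k, (e.trans e').toLinearMap.comp g, (e.trans e').injective.comp hg⟩

/-- A finite module over a Bézout domain which embeds in `R^n` is free. -/
theorem free_of_injective (R : Type u) [CommRing R] [IsDomain R] [IsBezout R] :
    ∀ (n : ℕ) (M : Type v) [AddCommGroup M] [Module R M] [Module.Finite R M]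
      (f : M →ₗ[R] (Fin n → R)), Function.Injective f → Module.Free R M := by
  intro n
  induction n with
  | zero =>
    intro M _ _ _ f hf
    have : Subsingleton M := ⟨fun x y => hf (funext fun i => i.elim0)⟩
    infer_instance
  | succ n ih =>
    intro M _ _ _ f hf
    let f0 : M →ₗ[R] R := LinearMap.proj 0 ∘ₗ f
    let ft : M →ₗ[R] (Fin n → R) := LinearMap.pi (fun i => LinearMap.proj i.succ) ∘ₗ f
    have hft : ∀ x, f0 x = 0 → ft x = 0 → x = 0 := by
      intro x h1 h2
      apply hf
      rw [map_zero]
      funext i
      refine Fin.cases ?_ (fun j => ?_) i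
      · exact h1
      · exact congrFun h2 j
    have hfg : (LinearMap.range f0).FG := by
      rw [LinearMap.range_eq_map]
      exact Submodule.FG.map _ Module.Finite.fg_top
    obtain ⟨d, hd⟩ := (IsBezout.isPrincipal_of_FG (R := R) (LinearMap.range f0) hfg).principal
    by_cases hd0 : d = 0
    · apply ih M ft
      rw [injective_iff_map_eq_zero]
      intro x hx
      refine hft x ?_ hx
      have h1 : f0 x ∈ LinearMap.range f0 := ⟨x, rfl⟩
      rw [hd, hd0] at h1
      simpa using h1
    · -- divide by `d`
      have hdiv : ∀ x, ∃ c, f0 x = c * d := by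
        intro x
        have h1 : f0 x ∈ LinearMap.range f0 := ⟨x, rfl⟩
        rw [hd, Submodule.mem_span_singleton] at h1
        obtain ⟨c, hc⟩ := h1
        exact ⟨c, hc.symm⟩
      choose c hc using hdiv
      let g : M →ₗ[R] R :=
        { toFun := c
          map_add' := fun x y => by
            apply mul_right_cancel₀ hd0
            rw [← hc, map_add, add_mul, ← hc, ← hc]
          map_smul' := fun r x => by
            apply mul_right_cancel₀ hd0
            rw [← hc, map_smul, RingHom.id_apply, smul_eq_mul, smul_eq_mul, hc, mul_assoc] }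
      have hg : Function.Surjective g := by
        have h1 : d ∈ LinearMap.range f0 := by
          rw [hd]; exact Submodule.mem_span_singleton_self d
        obtain ⟨x, hx⟩ := h1
        intro r
        refine ⟨r • x, ?_⟩
        apply mul_right_cancel₀ hd0
        show c (r • x) * d = r * d
        rw [← hc, map_smul, hx, smul_eq_mul]
      obtain ⟨s, hs⟩ := Module.projective_lifting_property g LinearMap.id hg
      let e := equivProdKer s g hs
      have hfin : Module.Finite R (LinearMap.ker g) :=
        Module.Finite.of_surjective (LinearMap.snd R R (LinearMap.ker g) ∘ₗ e.symm.toLinearMap)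
          (fun y => ⟨e (0, y), by
            rw [LinearMap.comp_apply, LinearEquiv.coe_coe, LinearEquiv.symm_apply_apply]
            rfl⟩)
      have hker : Module.Free R (LinearMap.ker g) := by
        apply ih (LinearMap.ker g) (ft ∘ₗ (LinearMap.ker g).subtype)
        rw [injective_iff_map_eq_zero]
        rintro ⟨x, hx⟩ h2
        apply Subtype.ext
        refine hft x ?_ h2
        have h3 : c x = 0 := hx
        rw [hc, h3, zero_mul]
      exact Module.Free.of_equiv e

/-- Over a Bézout domain a finite torsion free module is free. -/
theorem free_of_torsionFree (R : Type u) [CommRing R] [IsDomain R] [IsBezout R]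
    (M : Type v) [AddCommGroup M] [Module R M] [Module.Finite R M]
    (h : ∀ (r : R) (x : M), r • x = 0 → r = 0 ∨ x = 0) : Module.Free R M := by
  obtain ⟨n, f, hf⟩ := exists_injective_fin_of_torsionFree R M h
  exact free_of_injective R n M f hf

end K65.Bezout
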