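import Groth.Agent.CAlg.K65.BezoutLocal
import Mathlib.RingTheory.Localization.AtPrime.Basic
import Mathlib.RingTheory.LocalProperties.Basic
import Mathlib.Algebra.Module.LocalizedModule.Submodule
import Mathlib.RingTheory.TensorProduct.IsBaseChangePi
import Mathlib.Algebra.Module.FinitePresentation
import Mathlib.Algebra.Module.Torsion.Basic

/-!
Finitely presented torsion modules over Bézout domains are retracts of finite products of
cyclic modules.
-/

set_option autoImplicit false
universe u v w

namespace K65.BezoutGlobal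

open K65.SplitBasics

theorem isBezout_of_isLocalization {R : Type u} [CommRing R] [IsBezout R] (S : Submonoid R)
    (R' : Type v) [CommRing R'] [Algebra R R'] [IsLocalization S R'] : IsBezout R' := by
  rw [IsBezout.iff_span_pair_isPrincipal]
  intro x y
  obtain ⟨a, s, rfl⟩ := IsLocalization.exists_mk'_eq S x
  obtain ⟨b, t, rfl⟩ := IsLocalization.exists_mk'_eq S y
  obtain ⟨d, hd⟩ := (IsBezout.span_pair_isPrincipal a b).principal
  have ha : a ∈ Ideal.span {a, b} := Ideal.subset_span (by simp)
  have hb : b ∈ Ideal.span {a, b} := Ideal.subset_span (by simp)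
  rw [hd, Submodule.mem_span_singleton] at ha hb
  obtain ⟨c, hc⟩ := ha
  obtain ⟨c', hc'⟩ := hb
  have hdm : d ∈ Ideal.span {a, b} := by rw [hd]; exact Submodule.mem_span_singleton_self d
  rw [Ideal.mem_span_pair] at hdm
  obtain ⟨p, q, hpq⟩ := hdm
  refine ⟨⟨algebraMap R R' d, ?_⟩⟩
  apply le_antisymm
  · rw [Ideal.span_le]
    rintro z (rfl | hz)
    · show _ ∈ Submodule.span R' {algebraMap R R' d}
      rw [Submodule.mem_span_singleton]
      refine ⟨IsLocalization.mk' R' c s, ?_⟩
      rw [← hc, smul_eq_mul, smul_eq_mul, mul_comm, IsLocalization.mul_mk'_eq_mk'_of_mul, mul_comm]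
    · rw [Set.mem_singleton_iff] at hz
      subst hz
      show _ ∈ Submodule.span R' {algebraMap R R' d}
      rw [Submodule.mem_span_singleton]
      refine ⟨IsLocalization.mk' R' c' t, ?_⟩
      rw [← hc', smul_eq_mul, smul_eq_mul, mul_comm, IsLocalization.mul_mk'_eq_mk'_of_mul, mul_comm]
  · rw [Submodule.span_le]
    intro z hz
    rw [Set.mem_singleton_iff] at hz
    subst hz
    rw [SetLike.mem_coe, Ideal.mem_span_pair]
    refine ⟨algebraMap R R' (p * s), algebraMap R R' (q * t), ?_⟩
    rw [← hpq, map_add, map_mul, map_mul, map_mul, map_mul, mul_assoc, mul_assoc,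
      IsLocalization.mk'_spec' R' a s, IsLocalization.mk'_spec' R' b t]

/-- The `R`-linear endomorphisms factoring through a cyclic module `R/(f)`, `f ≠ 0`. -/
def cycEnd (R : Type u) [CommRing R] (T : Type v) [AddCommGroup T] [Module R T] :
    Set (Module.End R T) :=
  { φ | ∃ (f : R) (_ : f ≠ 0) (a : T →ₗ[R] (R ⧸ Ideal.span {f})) (b : (R ⧸ Ideal.span {f}) →ₗ[R] T),
      φ = b ∘ₗ a }

theorem exists_retract_of_mem_span {R : Type u} [CommRing R] {T : Type v} [AddCommGroup T]
    [Module R T] (h : (LinearMap.id : Module.End R T) ∈ Submodule.span R (cycEnd R T)) :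
    ∃ (n : ℕ) (f : Fin n → R), (∀ j, f j ≠ 0) ∧
        ∃ (i : T →ₗ[R] ((j : Fin n) → R ⧸ Ideal.span {f j}))
          (p : ((j : Fin n) → R ⧸ Ideal.span {f j}) →ₗ[R] T),
          p ∘ₗ i = LinearMap.id := by
  rw [Submodule.mem_span_set'] at h
  obtain ⟨n, c, g, hg⟩ := h
  have h1 : ∀ j, ∃ (f : R) (_ : f ≠ 0) (a : T →ₗ[R] (R ⧸ Ideal.span {f}))
      (b : (R ⧸ Ideal.span {f}) →ₗ[R] T), (g j : Module.End R T) = b ∘ₗ a := fun j => (g j).2
  choose f hf a b hab using h1
  refine ⟨n, f, hf, LinearMap.pi a, ∑ j, c j • (b j ∘ₗ LinearMap.proj j), ?_⟩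
  rw [← hg]
  apply LinearMap.ext
  intro x
  rw [LinearMap.comp_apply, LinearMap.sum_apply, LinearMap.sum_apply]
  refine Finset.sum_congr rfl (fun j _ => ?_)
  rw [hab j]
  rfl

section local_step

variable {R : Type u} [CommRing R] {T : Type v} [AddCommGroup T] [Module R T]
  [Module.FinitePresentation R T] (S : Submonoid R)
  (R' : Type u) [CommRing R'] [Algebra R R'] [IsLocalization S R']
  {T' : Type w} [AddCommGroup T'] [Module R T'] [Module R' T'] [IsScalarTower R R' T']
  (f : T →ₗ[R] T') [IsLocalizedModule S f]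

include S f in
/-- If `T_S` is a finite product of modules `R_S/(a)`, `a ≠ 0`, then some element of `S` acts on
`T` as a linear combination of endomorphisms which factor through modules `R/(a)`, `a ≠ 0`. -/
theorem exists_smul_mem_span {n : ℕ} (a : Fin n → R')
    (ha : ∀ j, a j ≠ 0) (e : T' ≃ₗ[R'] ((i : Fin n) → R' ⧸ Ideal.span {a i})) :
    ∃ s ∈ S, s • (LinearMap.id : Module.End R T) ∈ Submodule.span R (cycEnd R T) := by
  classical
  -- numerators
  have h0 : ∀ j, ∃ x : R, ∃ s : S, a j = IsLocalization.mk' R' x s := fun j => by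
    obtain ⟨x, s, h⟩ := IsLocalization.exists_mk'_eq S (a j)
    exact ⟨x, s, h.symm⟩
  choose x t hxt using h0
  have hx0 : ∀ j, x j ≠ 0 := by
    intro j hj
    apply ha j
    rw [hxt, hj, IsLocalization.mk'_zero]
  have hspan : ∀ j, Ideal.span {a j} = (Ideal.span {x j}).localized' R' S (Algebra.linearMap R R') := by
    intro j
    rw [← Ideal.submodule_span_eq (α := R), Submodule.localized'_span, Set.image_singleton]
    apply le_antisymm
    · rw [Ideal.span_le]
      intro z hz
      rw [Set.mem_singleton_iff] at hz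
      subst hz
      rw [SetLike.mem_coe, Submodule.mem_span_singleton]
      refine ⟨IsLocalization.mk' R' 1 (t j), ?_⟩
      rw [hxt, smul_eq_mul, Algebra.linearMap_apply, mul_comm, IsLocalization.mul_mk'_eq_mk'_of_mul,
        mul_one]
    · rw [Submodule.span_le]
      intro z hz
      rw [Set.mem_singleton_iff] at hz
      subst hz
      rw [SetLike.mem_coe]
      have h2 : a j * algebraMap R R' (t j) ∈ Ideal.span {a j} :=
        Ideal.mul_mem_right _ _ (Ideal.mem_span_singleton_self _)
      rwa [hxt, IsLocalization.mk'_spec, ← hxt] at h2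
  let W : Fin n → (T →ₗ[R] T') := fun j =>
    ((e.symm.toLinearMap ∘ₗ LinearMap.single R' _ j ∘ₗ LinearMap.proj j ∘ₗ
      e.toLinearMap).restrictScalars R) ∘ₗ f
  have hW : ∑ j, W j = f := by
    apply LinearMap.ext
    intro z
    rw [LinearMap.sum_apply]
    show ∑ j, e.symm (Pi.single j (e (f z) j)) = f z
    rw [← map_sum, Finset.univ_sum_single, LinearEquiv.symm_apply_apply]
  have hj : ∀ j, ∃ s ∈ S, ∃ φ ∈ Submodule.span R (cycEnd R T), f ∘ₗ φ = s • W j := by
    intro j
    let q := (Ideal.span {x j}).toLocalizedQuotient' R' S (Algebra.linearMap R R')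
    let ej : (R' ⧸ Ideal.span {a j}) ≃ₗ[R'] _ := Submodule.quotEquivOfEq _ _ (hspan j)
    let U : T' →ₗ[R'] _ := ej.toLinearMap ∘ₗ LinearMap.proj j ∘ₗ e.toLinearMap
    let V : _ →ₗ[R'] T' := e.symm.toLinearMap ∘ₗ LinearMap.single R' _ j ∘ₗ ej.symm.toLinearMap
    have hfp : Module.FinitePresentation R (R ⧸ Ideal.span {x j}) := by
      apply Module.finitePresentation_of_surjective (Submodule.mkQ (Ideal.span {x j}))
        (Submodule.mkQ_surjective _)
      rw [Submodule.ker_mkQ]
      exact Submodule.fg_span (Set.finite_singleton _)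
    obtain ⟨h, s1, h1⟩ := Module.FinitePresentation.exists_lift_of_isLocalizedModule S q
      (U.restrictScalars R ∘ₗ f)
    obtain ⟨k, s2, h2⟩ := Module.FinitePresentation.exists_lift_of_isLocalizedModule S f
      (V.restrictScalars R ∘ₗ q)
    refine ⟨s2 * s1, mul_mem s2.2 s1.2, k ∘ₗ h, Submodule.subset_span ⟨x j, hx0 j, h, k, rfl⟩, ?_⟩
    apply LinearMap.ext
    intro z
    have h1' : q (h z) = (s1 : R) • U (f z) := LinearMap.congr_fun h1 z
    have h2' : f (k (h z)) = (s2 : R) • V (q (h z)) := LinearMap.congr_fun h2 (h z)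
    have h3' : V ((s1 : R) • U (f z)) = (s1 : R) • V (U (f z)) :=
      (V.restrictScalars R).map_smul (s1 : R) (U (f z))
    show f (k (h z)) = ((s2 : R) * s1) • e.symm (Pi.single j (e (f z) j))
    rw [h2', h1', h3', mul_smul]
    congr 2
    show e.symm (Pi.single j (ej.symm (ej (e (f z) j)))) = e.symm (Pi.single j (e (f z) j))
    rw [LinearEquiv.symm_apply_apply]
  have hsum : ∀ J : Finset (Fin n), ∃ s ∈ S, ∃ φ ∈ Submodule.span R (cycEnd R T),
      f ∘ₗ φ = s • ∑ j ∈ J, W j := by
    intro J
    induction J using Finset.induction_on with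
    | empty => exact ⟨1, one_mem _, 0, Submodule.zero_mem _, by simp⟩
    | insert j J hjJ ih =>
      obtain ⟨s1, hs1, φ1, hφ1, h1⟩ := ih
      obtain ⟨s2, hs2, φ2, hφ2, h2⟩ := hj j
      refine ⟨s1 * s2, mul_mem hs1 hs2, s2 • φ1 + s1 • φ2,
        Submodule.add_mem _ (Submodule.smul_mem _ _ hφ1) (Submodule.smul_mem _ _ hφ2), ?_⟩
      rw [LinearMap.comp_add, LinearMap.comp_smul, LinearMap.comp_smul, h1, h2,
        Finset.sum_insert hjJ, smul_add, smul_smul, smul_smul, mul_comm s2 s1, add_comm]
  obtain ⟨s, hs, φ, hφ, h1⟩ := hsum Finset.univ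
  rw [hW] at h1
  have h2 : f ∘ₗ φ = f ∘ₗ (s • LinearMap.id) := by
    rw [h1, LinearMap.comp_smul, LinearMap.comp_id]
  obtain ⟨s', h3⟩ := Module.Finite.exists_smul_of_comp_eq_of_isLocalizedModule S f _ _ h2
  refine ⟨s' * s, mul_mem s'.2 hs, ?_⟩
  have h4 : (s' : R) • φ = (s' : R) • s • LinearMap.id := h3
  rw [mul_smul, ← h4]
  exact Submodule.smul_mem _ _ hφ

end local_step

/-- A finitely presented torsion module over a Bézout domain is a retract of a finite product of
modules `R/(f)`, `f ≠ 0`. -/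
theorem exists_retract (R : Type u) [CommRing R] [IsDomain R] [IsBezout R]
    (T : Type v) [AddCommGroup T] [Module R T] [Module.FinitePresentation R T]
    (htors : ∀ x : T, ∃ r : R, r ≠ 0 ∧ r • x = 0) :
    ∃ (n : ℕ) (f : Fin n → R), (∀ j, f j ≠ 0) ∧
        ∃ (i : T →ₗ[R] ((j : Fin n) → R ⧸ Ideal.span {f j}))
          (p : ((j : Fin n) → R ⧸ Ideal.span {f j}) →ₗ[R] T),
          p ∘ₗ i = LinearMap.id := by
  apply exists_retract_of_mem_span
  let J : Ideal R := (Submodule.span R (cycEnd R T)).comap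
    (LinearMap.toSpanSingleton R (Module.End R T) LinearMap.id)
  suffices hJ : J = ⊤ by
    have h1 : (1 : R) ∈ J := by rw [hJ]; trivial
    have h2 : (1 : R) • (LinearMap.id : Module.End R T) ∈ Submodule.span R (cycEnd R T) := h1
    rwa [one_smul] at h2
  by_contra hne
  obtain ⟨m, hm, hJm⟩ := Ideal.exists_le_maximal J hne
  let R' := Localization.AtPrime m
  let T' := LocalizedModule m.primeCompl T
  have : IsBezout R' := isBezout_of_isLocalization m.primeCompl R'
  have : IsDomain R' := IsLocalization.isDomain_localization (le_nonZeroDivisors_of_noZeroDivisors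
    (fun h => h (Ideal.zero_mem m)))
  obtain ⟨n, a, ⟨e⟩⟩ := K65.BezoutLocal.exists_equiv_pi_quotient' R' T'
  have ha : ∀ j, a j ≠ 0 := by
    intro j hj
    -- the element `e⁻¹(0,…,1,…,0)` would not be torsion
    let y : T' := e.symm (Pi.single j (1 : R' ⧸ Ideal.span {a j}))
    obtain ⟨⟨t, s⟩, hts⟩ := IsLocalizedModule.mk'_surjective m.primeCompl
      (LocalizedModule.mkLinearMap m.primeCompl T) y
    obtain ⟨r, hr0, hr⟩ := htors t
    have h1 : r • y = 0 := by
      rw [← hts]
      show r • IsLocalizedModule.mk' (LocalizedModule.mkLinearMap m.primeCompl T) t s = 0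
      rw [← IsLocalizedModule.mk'_smul, hr, IsLocalizedModule.mk'_zero]
    have h2 : (algebraMap R R' r) • y = 0 := by rw [algebraMap_smul]; exact h1
    have h3 : e ((algebraMap R R' r) • y) j = 0 := by rw [h2, map_zero]; rfl
    rw [map_smul, LinearEquiv.apply_symm_apply, Pi.smul_apply, Pi.single_eq_same] at h3
    have h4 : (Ideal.Quotient.mk (Ideal.span {a j})) (algebraMap R R' r) = 0 := by
      rw [← mul_one ((Ideal.Quotient.mk (Ideal.span {a j})) (algebraMap R R' r))]
      exact h3
    rw [Ideal.Quotient.eq_zero_iff_mem, hj, Ideal.mem_span_singleton, zero_dvd_iff] at h4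
    have h5 : Function.Injective (algebraMap R R') :=
      IsLocalization.injective R' (le_nonZeroDivisors_of_noZeroDivisors
        (fun h => h (Ideal.zero_mem m)) : m.primeCompl ≤ nonZeroDivisors R)
    exact hr0 (h5 (by rw [h4, map_zero]))
  obtain ⟨s, hs, h⟩ := exists_smul_mem_span m.primeCompl R'
    (LocalizedModule.mkLinearMap m.primeCompl T) a ha e
  exact hs (hJm h)

end K65.BezoutGlobal
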