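import Groth.Agent.CAlg.K65.Bezout
import Mathlib.RingTheory.LocalRing.MaximalIdeal.Basic
import Mathlib.LinearAlgebra.Dimension.StrongRankCondition
import Mathlib.LinearAlgebra.Dimension.Free
import Mathlib.LinearAlgebra.Dimension.Constructions
import Mathlib.RingTheory.Ideal.Quotient.Basic
import Mathlib.LinearAlgebra.Pi
import Mathlib.Algebra.Module.FinitePresentation

/-!
Finitely presented modules over local Bézout domains (valuation rings) are direct sums of
cyclic modules `V/(a)`.
-/

set_option autoImplicit false
universe u v w

namespace K65.BezoutLocal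

open K65.SplitBasics

/-- Finitely presented modules over a local Bézout domain are finite products of modules `V/(a)`. -/
theorem exists_equiv_pi_quotient (V : Type u) [CommRing V] [IsDomain V] [IsBezout V]
    [IsLocalRing V] : ∀ (n : ℕ) (F : Type v) [AddCommGroup F] [Module V F] [Module.Free V F]
      [Module.Finite V F] (_ : Module.finrank V F = n) (M : Type w) [AddCommGroup M] [Module V M]
      (π : F →ₗ[V] M) (_ : Function.Surjective π) (_ : (LinearMap.ker π).FG),
      ∃ a : Fin n → V, Nonempty (M ≃ₗ[V] ((i : Fin n) → V ⧸ Ideal.span {a i})) := by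
  intro n
  induction n with
  | zero =>
    intro F _ _ _ _ hn M _ _ π hπ hker
    have h1 : Subsingleton F := (Module.finrank_eq_zero_iff_of_free V F).1 hn
    have h2 : Subsingleton M := hπ.subsingleton
    exact ⟨fun _ => 0, ⟨⟨(0 : M →ₗ[V] _), 0, fun x => Subsingleton.elim _ _,
      fun x => Subsingleton.elim _ _⟩⟩⟩
  | succ n ih =>
    intro F _ _ _ _ hn M _ _ π hπ hker
    classical
    let b : Module.Basis (Fin (n + 1)) V F := Module.finBasisOfFinrankEq V F hn
    let I : Ideal V := ⨆ i, (LinearMap.ker π).map (b.coord i)
    have hI : I.FG := Submodule.fg_iSup _ (fun i => hker.map _)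
    have hIle : ∀ i, ∀ y ∈ LinearMap.ker π, b.coord i y ∈ I := fun i y hy =>
      (le_iSup (fun i => (LinearMap.ker π).map (b.coord i)) i) ⟨y, hy, rfl⟩
    obtain ⟨a, ha⟩ := (IsBezout.isPrincipal_of_FG (R := V) I hI).principal
    by_cases ha0 : a = 0
    · have h1 : LinearMap.ker π = ⊥ := by
        rw [eq_bot_iff]
        intro y hy
        rw [Submodule.mem_bot, ← b.forall_coord_eq_zero_iff]
        intro i
        have h2 := hIle i y hy
        rw [ha, ha0] at h2
        simpa using h2
      let e : M ≃ₗ[V] F := (LinearEquiv.ofBijective π ⟨LinearMap.ker_eq_bot.1 h1, hπ⟩).symm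
      let e2 : F ≃ₗ[V] (Fin (n + 1) → V) := b.equivFun
      let e3 : (Fin (n + 1) → V) ≃ₗ[V] ((i : Fin (n + 1)) → V ⧸ Ideal.span {(0 : V)}) :=
        LinearEquiv.piCongrRight (fun i => (Submodule.quotEquivOfEqBot (Ideal.span {(0 : V)})
          (by simp)).symm)
      exact ⟨fun _ => 0, ⟨(e.trans e2).trans e3⟩⟩
    · -- an element with a coordinate exactly `a`
      have hex : ∃ i, ∃ y ∈ LinearMap.ker π, b.coord i y = a := by
        by_contra hcon
        push Not at hcon
        have h1 : I ≤ Ideal.span {a} * IsLocalRing.maximalIdeal V := by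
          apply iSup_le
          rintro i _ ⟨y, hy, rfl⟩
          have h2 := hIle i y hy
          rw [ha, Submodule.mem_span_singleton] at h2
          obtain ⟨c, hc⟩ := h2
          rw [← hc, smul_eq_mul, mul_comm c a]
          refine Ideal.mul_mem_mul (Ideal.mem_span_singleton_self a) ?_
          rw [IsLocalRing.mem_maximalIdeal, mem_nonunits_iff]
          rintro ⟨w, rfl⟩
          apply hcon i ((↑w⁻¹ : V) • y) (Submodule.smul_mem _ _ hy)
          rw [map_smul, ← hc, smul_eq_mul, smul_eq_mul, ← mul_assoc, Units.inv_mul, one_mul]
        have h3 : a ∈ Ideal.span {a} * IsLocalRing.maximalIdeal V :=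
          h1 (by rw [ha]; exact Submodule.mem_span_singleton_self a)
        rw [Ideal.mem_span_singleton_mul] at h3
        obtain ⟨z, hz, hz2⟩ := h3
        have h4 : z = 1 := by
          apply mul_left_cancel₀ ha0
          rw [hz2, mul_one]
        rw [h4] at hz
        exact (IsLocalRing.mem_maximalIdeal _).1 hz isUnit_one
      obtain ⟨i, y0, hy0, hy0a⟩ := hex
      have hdiv : ∀ j, ∃ c, b.coord j y0 = a * c := by
        intro j
        have h2 := hIle j y0 hy0
        rw [ha, Submodule.mem_span_singleton] at h2
        obtain ⟨c, hc⟩ := h2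
        exact ⟨c, by rw [← hc, smul_eq_mul, mul_comm]⟩
      choose c hc using hdiv
      let e : F := ∑ j, c j • b j
      have hae : a • e = y0 := by
        apply b.ext_elem
        intro j
        have h5 : b.repr y0 j = a * c j := hc j
        rw [h5, map_smul, Finsupp.smul_apply, smul_eq_mul]
        congr 1
        simp only [e, map_sum, map_smul, Module.Basis.repr_self, Finsupp.smul_single, smul_eq_mul,
          mul_one]
        rw [Finsupp.finsetSum_apply, Finset.sum_eq_single j]
        · simp
        · intro k _ hk; exact Finsupp.single_eq_of_ne (by exact hk.symm)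
        · intro h; exact absurd (Finset.mem_univ _) h
      let lam : F →ₗ[V] V := b.coord i
      have hlam : lam e = 1 := by
        apply mul_left_cancel₀ ha0
        rw [← smul_eq_mul, ← map_smul, hae, mul_one]
        exact hy0a
      have hri : lam ∘ₗ LinearMap.toSpanSingleton V F e = LinearMap.id := by
        ext
        simp [hlam]
      let F' := LinearMap.ker lam
      let ε := equivProdKer _ lam hri
      have hfin : Module.Finite V F' :=
        Module.Finite.of_surjective (LinearMap.snd V V F' ∘ₗ ε.symm.toLinearMap)
          (fun y => ⟨ε (0, y), by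
            rw [LinearMap.comp_apply, LinearEquiv.coe_coe, LinearEquiv.symm_apply_apply]
            rfl⟩)
      have hfree : Module.Free V F' :=
        K65.Bezout.free_of_injective V (n + 1) F' (b.equivFun.toLinearMap ∘ₗ F'.subtype)
          (b.equivFun.injective.comp Subtype.val_injective)
      have hrank : Module.finrank V F' = n := by
        have h1 := LinearEquiv.finrank_eq ε
        rw [Module.finrank_prod, Module.finrank_self, hn] at h1
        have h2 : 1 + Module.finrank V F' = n + 1 := h1
        omega
      -- the kernel on `F'`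
      let π0 : F' →ₗ[V] M := π ∘ₗ F'.subtype
      let π' : F' →ₗ[V] LinearMap.range π0 := π0.rangeRestrict
      have hlamI : ∀ z ∈ LinearMap.ker π, ∃ c, lam z = a * c := by
        intro z hz
        have h2 := hIle i z hz
        rw [ha, Submodule.mem_span_singleton] at h2
        obtain ⟨c, hc⟩ := h2
        exact ⟨c, by rw [mul_comm]; exact hc.symm⟩
      have hmem : ∀ c : V, (a * c) • e ∈ LinearMap.ker π := by
        intro c
        rw [mul_comm, mul_smul, hae]
        exact Submodule.smul_mem _ _ hy0
      let ρ : F →ₗ[V] F' := LinearMap.codRestrict F'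
        (LinearMap.id - (LinearMap.toSpanSingleton V F e) ∘ₗ lam) (by
          intro z
          show lam (z - lam z • e) = 0
          rw [map_sub, map_smul, hlam, smul_eq_mul, mul_one, sub_self])
      have hρ : (LinearMap.ker π).map ρ = LinearMap.ker π' := by
        apply le_antisymm
        · rintro _ ⟨z, hz, rfl⟩
          rw [LinearMap.mem_ker]
          apply Subtype.ext
          show π (z - lam z • e) = 0
          obtain ⟨c, hc⟩ := hlamI z hz
          rw [← LinearMap.mem_ker]
          apply Submodule.sub_mem _ hz
          rw [hc]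
          exact hmem c
        · rintro ⟨z, hz⟩ hz2
          refine ⟨z, ?_, ?_⟩
          · have h3 : π' ⟨z, hz⟩ = 0 := hz2
            exact congrArg Subtype.val h3
          · apply Subtype.ext
            show z - lam z • e = z
            rw [show lam z = 0 from hz, zero_smul, sub_zero]
      have hker' : (LinearMap.ker π').FG := by
        rw [← hρ]; exact hker.map ρ
      obtain ⟨a', ⟨e'⟩⟩ := ih F' hrank (LinearMap.range π0) π' π0.surjective_rangeRestrict hker'
      -- decomposition of `M`
      let q : V →ₗ[V] M := LinearMap.toSpanSingleton V M (π e)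
      have hq : Ideal.span {a} ≤ LinearMap.ker q := by
        rw [Ideal.span_le]
        intro x hx
        rw [Set.mem_singleton_iff] at hx
        subst hx
        show x • π e = 0
        rw [← map_smul, hae]
        exact hy0
      let Φ : ((V ⧸ Ideal.span {a}) × LinearMap.range π0) →ₗ[V] M :=
        LinearMap.coprod (Submodule.liftQ (Ideal.span {a}) q hq) (LinearMap.range π0).subtype
      have hΦ : Function.Bijective Φ := by
        constructor
        · rw [← LinearMap.ker_eq_bot, LinearMap.ker_eq_bot']
          rintro ⟨vbar, ⟨_, ⟨f, rfl⟩⟩⟩ h0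
          obtain ⟨v, rfl⟩ := Submodule.mkQ_surjective _ vbar
          have h1 : v • π e + π f = 0 := h0
          rw [← map_smul, ← map_add] at h1
          obtain ⟨c, hc⟩ := hlamI _ h1
          rw [map_add, map_smul, hlam, smul_eq_mul, mul_one, show lam f = 0 from f.2, add_zero] at hc
          have h2 : π f = 0 := by
            have h3 : (f : F) = (v • e + f) - (a * c) • e := by
              rw [hc]; abel
            rw [h3]
            exact Submodule.sub_mem _ h1 (hmem c)
          apply Prod.ext
          · show Submodule.mkQ _ v = 0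
            rw [Submodule.mkQ_apply, Submodule.Quotient.mk_eq_zero, hc]
            exact Ideal.mul_mem_right _ _ (Ideal.mem_span_singleton_self a)
          · exact Subtype.ext h2
        · intro m
          obtain ⟨z, rfl⟩ := hπ m
          refine ⟨(Submodule.mkQ _ (lam z), ⟨π0 (ρ z), ⟨ρ z, rfl⟩⟩), ?_⟩
          show lam z • π e + π (z - lam z • e) = π z
          rw [map_sub, map_smul]
          abel
      let e1 : M ≃ₗ[V] ((V ⧸ Ideal.span {a}) × ((i : Fin n) → V ⧸ Ideal.span {a' i})) :=
        (LinearEquiv.ofBijective Φ hΦ).symm.trans ((LinearEquiv.refl V _).prodCongr e')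
      exact ⟨Fin.cons a a', ⟨e1.trans (Fin.consLinearEquiv V
        (fun i => V ⧸ Ideal.span {(Fin.cons a a' : Fin (n + 1) → V) i}))⟩⟩

/-- Finitely presented modules over a local Bézout domain are finite products of modules `V/(a)`. -/
theorem exists_equiv_pi_quotient' (V : Type u) [CommRing V] [IsDomain V] [IsBezout V]
    [IsLocalRing V] (M : Type w) [AddCommGroup M] [Module V M] [Module.FinitePresentation V M] :
    ∃ (n : ℕ) (a : Fin n → V), Nonempty (M ≃ₗ[V] ((i : Fin n) → V ⧸ Ideal.span {a i})) := by
  obtain ⟨n, f, hf⟩ := Module.Finite.exists_fin' V M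
  exact ⟨n, exists_equiv_pi_quotient V n (Fin n → V) (Module.finrank_fin_fun V) M f hf
    (Module.FinitePresentation.fg_ker f hf)⟩

end K65.BezoutLocal
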