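import Mathlib.RingTheory.Ideal.KrullsHeightTheorem
import Mathlib.RingTheory.KrullDimension.Basic
import Mathlib.RingTheory.KrullDimension.NonZeroDivisors
import Mathlib.RingTheory.LocalRing.Quotient

/-!
Systems of parameters.
-/

set_option autoImplicit false
universe u v w

namespace K65.Sop

open IsLocalRing

/-- In a Noetherian local ring `R`, given `T ≤ m`, there are `n = dim R/T` elements `x i ∈ m`
such that `m` is the radical of `T + (x)` (the proof is the one of
`Groth.Agent.CalgA.FinitePow.exists_sop`). -/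
theorem exists_sop {R : Type*} [CommRing R] [IsLocalRing R] [IsNoetherianRing R] (T : Ideal R)
    (hT : T ≤ maximalIdeal R) :
    ∃ (n : ℕ) (x : Fin n → R), (∀ i, x i ∈ maximalIdeal R) ∧
      maximalIdeal R ≤ (T ⊔ Ideal.span (Set.range x)).radical ∧
      ringKrullDim (R ⧸ T) = n := by
  have hTtop : T ≠ ⊤ := fun h ↦ (maximalIdeal.isMaximal R).ne_top (top_le_iff.mp (h ▸ hT))
  have : Nontrivial (R ⧸ T) := Ideal.Quotient.nontrivial_iff.mpr hTtop
  have : IsLocalRing (R ⧸ T) :=
    IsLocalRing.of_surjective' (Ideal.Quotient.mk T) Ideal.Quotient.mk_surjective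
  have hloc : IsLocalHom (Ideal.Quotient.mk T) :=
    IsLocalHom.of_surjective _ Ideal.Quotient.mk_surjective
  obtain ⟨s, hs, hcard⟩ :=
    Ideal.exists_finset_card_eq_height_of_isNoetherianRing (maximalIdeal (R ⧸ T))
  choose g hg using (Ideal.Quotient.mk_surjective (I := T))
  let x : Fin s.card → R := fun i ↦ g (s.equivFin.symm i : R ⧸ T)
  have hsm : Ideal.span (s : Set (R ⧸ T)) ≤ maximalIdeal (R ⧸ T) := hs.1.2
  refine ⟨s.card, x, ?_, ?_, ?_⟩
  · intro i
    have h1 : (s.equivFin.symm i : R ⧸ T) ∈ maximalIdeal (R ⧸ T) :=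
      hsm (Ideal.subset_span (s.equivFin.symm i).2)
    rw [← hg (s.equivFin.symm i : R ⧸ T), mem_maximalIdeal, mem_nonunits_iff,
      isUnit_map_iff (Ideal.Quotient.mk T)] at h1
    exact h1
  · intro a ha
    have h1 : Ideal.Quotient.mk T a ∈ maximalIdeal (R ⧸ T) := by
      rw [mem_maximalIdeal, mem_nonunits_iff, isUnit_map_iff (Ideal.Quotient.mk T)]
      exact ha
    have h2 : maximalIdeal (R ⧸ T) ≤ (Ideal.span (s : Set (R ⧸ T))).radical := by
      rw [Ideal.radical_eq_sInf]
      refine le_sInf fun q hq ↦ ?_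
      exact hs.2 ⟨hq.2, hq.1⟩ (le_maximalIdeal hq.2.ne_top)
    obtain ⟨k, hk⟩ := h2 h1
    refine ⟨k, ?_⟩
    have h3 : Ideal.span (s : Set (R ⧸ T)) ≤
        (Ideal.span (Set.range x)).map (Ideal.Quotient.mk T) := by
      rw [Ideal.span_le]
      intro b hb
      rw [← hg b]
      refine Ideal.mem_map_of_mem _ (Ideal.subset_span ⟨s.equivFin ⟨b, hb⟩, ?_⟩)
      simp [x]
    have h4 := h3 hk
    rw [← map_pow] at h4
    have h5 : a ^ k ∈ ((Ideal.span (Set.range x)).map (Ideal.Quotient.mk T)).comap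
      (Ideal.Quotient.mk T) := h4
    rwa [Ideal.comap_map_of_surjective' _ Ideal.Quotient.mk_surjective, Ideal.mk_ker,
      sup_comm] at h5
  · rw [← maximalIdeal_height_eq_ringKrullDim, ← hcard]
    rfl

/-- Cutting by an element of no minimal prime lowers the dimension. -/
theorem ringKrullDim_quotient_add_one_le {R : Type*} [CommRing R] (f : R)
    (hf : ∀ p ∈ minimalPrimes R, f ∉ p) : ringKrullDim (R ⧸ Ideal.span {f}) + 1 ≤ ringKrullDim R := by
  by_cases hr' : Ideal.span {f} = ⊤
  · have : Subsingleton (R ⧸ Ideal.span {f}) := Ideal.Quotient.subsingleton_iff.mpr hr'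
    simp [ringKrullDim_eq_bot_of_subsingleton]
  · have : Nonempty (PrimeSpectrum.zeroLocus (R := R) (Ideal.span {f})) := by
      rwa [Set.nonempty_coe_sort, Set.nonempty_iff_ne_empty, ne_eq,
        PrimeSpectrum.zeroLocus_empty_iff_eq_top]
    have : Nonempty (PrimeSpectrum R) := (Set.nonempty_coe_sort.2 ⟨_, this.some.2⟩).elim
      (fun x => ⟨x.1⟩)
    rw [ringKrullDim_quotient, Order.krullDim_eq_iSup_coheight, ringKrullDim,
      Order.krullDim_eq_iSup_coheight]
    rw [← WithBot.coe_iSup, ← WithBot.coe_iSup, ← WithBot.coe_one, ← WithBot.coe_add,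
      WithBot.coe_le_coe, ENat.iSup_add]
    · apply iSup_le
      rintro ⟨p, hp⟩
      obtain ⟨q, hq, hqp⟩ := Ideal.exists_minimalPrimes_le (bot_le (a := p.asIdeal))
      let q' : PrimeSpectrum R := ⟨q, hq.1.1⟩
      have hlt : q' < p := by
        refine lt_of_le_of_ne hqp ?_
        intro h
        apply hf q hq
        have h1 : f ∈ p.asIdeal := by
          have h2 : Ideal.span {f} ≤ p.asIdeal := by simpa using hp
          exact h2 (Ideal.mem_span_singleton_self f)
        rw [← h] at h1
        exact h1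
      refine le_trans ?_ (le_iSup _ q')
      refine le_trans ?_ (Order.coheight_add_one_le hlt)
      gcongr
      exact Order.coheight_le_coheight_apply_of_strictMono
        (Subtype.val : PrimeSpectrum.zeroLocus (R := R) (Ideal.span {f}) → PrimeSpectrum R)
        (fun _ _ h => h) ⟨p, hp⟩
    · exact OrderTop.bddAbove _
    · exact OrderTop.bddAbove _

/-- Prime versions with a prescribed number of elements. -/
theorem exists_sop_extending {R : Type u} [CommRing R] [IsNoetherianRing R] [IsLocalRing R]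
    (d : ℕ) (hd : ringKrullDim R = d) (f : R) (hf : f ∈ IsLocalRing.maximalIdeal R)
    (hmin : ∀ p ∈ minimalPrimes R, f ∉ p) (k : ℕ) :
    ∃ g : Fin (d - 1) → R, (∀ i, g i ∈ IsLocalRing.maximalIdeal R ^ (k + 1)) ∧
      IsLocalRing.maximalIdeal R ≤ (Ideal.span (insert f (Set.range g))).radical := by
  obtain ⟨n, x, hx, hrad, hn⟩ := exists_sop (Ideal.span {f})
    ((Ideal.span_singleton_le_iff_mem _).2 hf)
  have h1 := ringKrullDim_quotient_add_one_le f hmin
  rw [hn, hd] at h1
  have h2 : n + 1 ≤ d := by exact_mod_cast h1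
  let g : Fin (d - 1) → R := fun i => if h : i.1 < n then x ⟨i.1, h⟩ ^ (k + 1) else 0
  refine ⟨g, ?_, ?_⟩
  · intro i
    by_cases h : i.1 < n
    · simp only [g, dif_pos h]
      exact Ideal.pow_mem_pow (hx _) _
    · simp only [g, dif_neg h]
      exact Ideal.zero_mem _
  · have h3 : Ideal.span {f} ⊔ Ideal.span (Set.range x) ≤
        (Ideal.span (insert f (Set.range g))).radical := by
      apply sup_le
      · rw [Ideal.span_singleton_le_iff_mem]
        exact Ideal.le_radical (Ideal.subset_span (Set.mem_insert _ _))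
      · rw [Ideal.span_le]
        rintro _ ⟨i, rfl⟩
        refine ⟨k + 1, Ideal.subset_span (Set.mem_insert_of_mem _ ⟨⟨i.1, by omega⟩, ?_⟩)⟩
        simp [g]
    exact hrad.trans ((Ideal.radical_mono h3).trans (Ideal.radical_idem _).le)

end K65.Sop
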