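import Mathlib
import Groth.Agent.CAlg.K65.Sop
import Groth.Agent.Etalg.NormalDvr
import Groth.Agent.S7116

set_option autoImplicit false
universe u

namespace K65.NormalTwo

open IsLocalRing

variable {R : Type u} [CommRing R]

theorem eq_of_le_height_one [IsDomain R] {q P : Ideal R} [hq : q.IsPrime] (hP : P.IsPrime)
    (hq1 : q.height = 1) (hP0 : P ≠ ⊥) (hle : P ≤ q) : P = q := by
  by_contra hne
  have hlt : P < q := lt_of_le_of_ne hle hne
  have h1 := (Ideal.height_le_iff (p := q) (n := 1)).1 (by rw [hq1]; rfl) P hP hlt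
  have h2 : P.height = 0 := by
    have h3 : P.height < 1 := by exact_mod_cast h1
    exact Order.lt_one_iff.mp h3
  exact hP0 (Ideal.height_eq_zero_iff_eq_bot.1 h2)

/-- powers of elements of a height one prime are locally divisible by any nonzero element. -/
theorem exists_mul_pow_eq [IsDomain R] {q : Ideal R} [hq : q.IsPrime] (hq1 : q.height = 1)
    {f v : R} (hf : f ≠ 0) (hv : v ∈ q) : ∃ (m : ℕ) (t c : R), t ∉ q ∧ t * v ^ m = f * c := by
  by_contra hcon
  push Not at hcon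
  let S : Submonoid R := q.primeCompl ⊔ Submonoid.powers v
  have hdisj : Disjoint ((Ideal.span {f} : Ideal R) : Set R) (S : Set R) := by
    rw [Set.disjoint_left]
    intro y hy hyS
    obtain ⟨c, hc⟩ := Ideal.mem_span_singleton.1 hy
    obtain ⟨t, ht, w, ⟨m, hm⟩, htw⟩ := Submonoid.mem_sup.1 hyS
    refine hcon m t c ht ?_
    rw [← hc, ← htw]
    simp only at hm
    rw [hm]
  obtain ⟨P, hP, hfP, hPS⟩ := Ideal.exists_le_prime_disjoint _ _ hdisj
  have hPq : P ≤ q := by
    intro y hy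
    by_contra hyq
    exact Set.disjoint_left.1 hPS hy (Submonoid.mem_sup_left hyq)
  have hvP : v ∉ P := fun h ↦ Set.disjoint_left.1 hPS h
    (Submonoid.mem_sup_right (Submonoid.mem_powers v))
  have hP0 : P ≠ ⊥ := by
    rintro rfl
    exact hf (by simpa using hfP)
  exact hvP (eq_of_le_height_one hP hq1 hP0 hPq ▸ hv)

theorem isPrincipalIdealRing_localization [IsDomain R] [IsNoetherianRing R] [IsIntegrallyClosed R]
    {q : Ideal R} [hq : q.IsPrime] (hq1 : q.height = 1) :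
    IsPrincipalIdealRing (Localization.AtPrime q) := by
  have : IsIntegrallyClosed (Localization.AtPrime q) :=
    isIntegrallyClosed_of_isLocalization _ q.primeCompl q.primeCompl_le_nonZeroDivisors
  have htfae := (tfae_of_isNoetherianRing_of_isLocalRing_of_isDomain
    (R := Localization.AtPrime q)).out 0 3
  refine htfae.2 ⟨this, fun P hP hPp ↦ ?_⟩
  have hcm : (maximalIdeal (Localization.AtPrime q)).comap
      (algebraMap R (Localization.AtPrime q)) = q := Localization.AtPrime.under_maximalIdeal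
  have hmc : (P.comap (algebraMap R (Localization.AtPrime q))).map
      (algebraMap R (Localization.AtPrime q)) = P := IsLocalization.map_under q.primeCompl _ P
  have h1 : P.comap (algebraMap R (Localization.AtPrime q)) ≤ q := by
    have h2 := Ideal.comap_mono (f := algebraMap R (Localization.AtPrime q))
      (le_maximalIdeal hPp.ne_top)
    rwa [hcm] at h2
  have h3 : P.comap (algebraMap R (Localization.AtPrime q)) ≠ ⊥ := by
    intro h
    apply hP
    rw [← hmc, h, Ideal.map_bot]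
  have h4 := eq_of_le_height_one (hPp.comap _) hq1 h3 h1
  rw [← hmc, h4, Localization.AtPrime.map_eq_maximalIdeal]

/-- uniformizers at height one primes of normal Noetherian domains -/
theorem exists_unif [IsDomain R] [IsNoetherianRing R] [IsIntegrallyClosed R]
    {q : Ideal R} [hq : q.IsPrime] (hq1 : q.height = 1) :
    ∃ u ∈ q, u ≠ 0 ∧ ∀ a ∈ q, ∃ t ∉ q, ∃ c, t * a = u * c := by
  have hpir := isPrincipalIdealRing_localization (q := q) hq1
  have hcm : (maximalIdeal (Localization.AtPrime q)).comap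
      (algebraMap R (Localization.AtPrime q)) = q := Localization.AtPrime.under_maximalIdeal
  obtain ⟨ϖ, hϖ⟩ := (IsPrincipalIdealRing.principal (maximalIdeal (Localization.AtPrime q))).principal
  obtain ⟨⟨u, s⟩, hus⟩ := IsLocalization.surj q.primeCompl ϖ
  simp only at hus
  have hϖm : ϖ ∈ maximalIdeal (Localization.AtPrime q) := by
    rw [hϖ]; exact Submodule.mem_span_singleton_self ϖ
  have huq : u ∈ q := by
    rw [← hcm, Ideal.mem_comap, ← hus]
    exact Ideal.mul_mem_right _ _ hϖm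
  have key : ∀ a ∈ q, ∃ t ∉ q, ∃ c, t * a = u * c := by
    intro a ha
    have h1 : algebraMap R (Localization.AtPrime q) a ∈ maximalIdeal (Localization.AtPrime q) := by
      rw [← Ideal.mem_comap, hcm]
      exact ha
    rw [hϖ] at h1
    obtain ⟨z, hz⟩ := Ideal.mem_span_singleton.1 h1
    obtain ⟨⟨c, t⟩, hct⟩ := IsLocalization.surj q.primeCompl z
    simp only at hct
    have h2 : algebraMap R (Localization.AtPrime q) (s * t * a) =
        algebraMap R (Localization.AtPrime q) (u * c) := by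
      rw [map_mul, map_mul, map_mul, hz, ← hus, ← hct]
      ring
    obtain ⟨r, hr⟩ := (IsLocalization.eq_iff_exists q.primeCompl _).1 h2
    refine ⟨r * (s * t), fun hmem ↦ ?_, r * c, ?_⟩
    · rcases hq.mem_or_mem hmem with h | h
      · exact r.2 h
      · rcases hq.mem_or_mem h with h | h
        · exact s.2 h
        · exact t.2 h
    · have : u * (r * c) = r * (u * c) := by ring
      rw [this, ← hr]
      ring
  refine ⟨u, huq, ?_, key⟩
  rintro rfl
  apply Ideal.ne_bot_of_height_eq_one hq1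
  rw [eq_bot_iff]
  intro a ha
  obtain ⟨t, ht, c, htc⟩ := key a ha
  rw [zero_mul] at htc
  rcases mul_eq_zero.1 htc with h | h
  · exact absurd (h ▸ q.zero_mem) ht
  · simpa using h

theorem card_le_coheight [IsNoetherianRing R] [IsLocalRing R]
    (x : R) (hx : x ∈ maximalIdeal R) (s : Finset (Ideal R)) (hs : ∀ p ∈ s, p.IsPrime ∧ x ∉ p)
    (hinc : ∀ p ∈ s, ∀ q ∈ s, p ≤ q → p = q) :
      (s.card : ℕ∞) ≤ Order.coheight (s.inf id ⊔ Ideal.span {x} : Ideal R) := by
  classical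
  induction s using Finset.induction_on with
  | empty => simp
  | insert p s hps ih =>
    have ih' := ih (fun q hq => hs q (Finset.mem_insert_of_mem hq))
      (fun q hq q' hq' ↦ hinc q (Finset.mem_insert_of_mem hq) q' (Finset.mem_insert_of_mem hq'))
    have hpp : p.IsPrime := (hs p (Finset.mem_insert_self _ _)).1
    rw [Finset.card_insert_of_notMem hps, Finset.inf_insert]
    have hlt : ((id p ⊓ s.inf id) ⊔ Ideal.span {x} : Ideal R) < s.inf id ⊔ Ideal.span {x} := by
      refine lt_of_le_not_ge (sup_le_sup_right inf_le_right _) ?_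
      intro hle
      have h1 : s.inf id ≤ (id p ⊓ s.inf id) ⊔ Ideal.span {x} • s.inf id := by
        intro y hy
        have hy' := hle (Ideal.mem_sup_left hy)
        rw [Submodule.mem_sup] at hy'
        obtain ⟨z, hz, w, hw, rfl⟩ := hy'
        rw [Ideal.mem_span_singleton'] at hw
        obtain ⟨r, rfl⟩ := hw
        refine Submodule.add_mem_sup hz ?_
        have hr : r ∈ s.inf id := by
          rw [Submodule.mem_finsetInf]
          intro q hq
          have hqp := hs q (Finset.mem_insert_of_mem hq)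
          have h2 : r * x ∈ s.inf id := by
            have := Submodule.sub_mem _ hy hz.2
            simpa using this
          rw [Submodule.mem_finsetInf] at h2
          exact (hqp.1.mem_or_mem (h2 q hq)).resolve_right hqp.2
        rw [mul_comm]
        exact Submodule.smul_mem_smul (Ideal.mem_span_singleton_self x) hr
      have h2 : s.inf id ≤ id p ⊓ s.inf id := by
        refine Submodule.le_of_le_smul_of_le_jacobson_bot (I := Ideal.span {x})
          (IsNoetherian.noetherian _) ?_ h1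
        rw [IsLocalRing.jacobson_eq_maximalIdeal ⊥ bot_ne_top]
        rwa [Ideal.span_singleton_le_iff_mem]
      have h3 : s.inf id ≤ p := h2.trans inf_le_left
      rw [hpp.inf_le'] at h3
      obtain ⟨q, hq, hqp⟩ := h3
      have : q = p := hinc q (Finset.mem_insert_of_mem hq) p (Finset.mem_insert_self _ _) hqp
      exact hps (this ▸ hq)
    calc ((s.card + 1 : ℕ) : ℕ∞) = (s.card : ℕ∞) + 1 := by push_cast; rfl
      _ ≤ Order.coheight (s.inf id ⊔ Ideal.span {x} : Ideal R) + 1 := by gcongr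
      _ ≤ _ := Order.coheight_add_one_le hlt

theorem exists_avoid [IsDomain R] {q₁ : Ideal R} [hq₁ : q₁.IsPrime]
    (hq₁1 : q₁.height = 1) {f : R} (hf : f ≠ 0) (T : Finset (Ideal R))
    (hT : ∀ q ∈ T, q.IsPrime ∧ q.height = 1) :
    ∃ v ∉ q₁, ∀ q ∈ T, q ≠ q₁ → ∃ t ∉ q, ∃ c ∈ q, t * v = f * c := by
  classical
  induction T using Finset.induction_on with
  | empty => exact ⟨1, fun h ↦ hq₁.ne_top ((Ideal.eq_top_iff_one _).2 h), by simp⟩
  | insert q T hqT ih =>
    obtain ⟨v, hv, hvT⟩ := ih fun p hp ↦ hT p (Finset.mem_insert_of_mem hp)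
    obtain ⟨hqp, hq1⟩ := hT q (Finset.mem_insert_self _ _)
    by_cases hqq : q = q₁
    · refine ⟨v, hv, fun p hp hpq ↦ ?_⟩
      rcases Finset.mem_insert.1 hp with rfl | hp
      · exact absurd hqq hpq
      · exact hvT p hp hpq
    · have hnle : ¬ q ≤ q₁ := fun hle ↦
        hqq (eq_of_le_height_one hqp hq₁1 (Ideal.ne_bot_of_height_eq_one hq1) hle)
      obtain ⟨y, hyq, hyq₁⟩ := SetLike.not_le_iff_exists.1 hnle
      have hy0 : y ≠ 0 := fun h ↦ hyq₁ (h ▸ q₁.zero_mem)
      obtain ⟨m, t, c, ht, htc⟩ := exists_mul_pow_eq hq1 (mul_ne_zero hf hy0) hyq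
      refine ⟨v * y ^ m, fun h ↦ (hq₁.mem_or_mem h).elim hv
        (fun h ↦ hyq₁ (hq₁.mem_of_pow_mem _ h)), fun p hp hpq ↦ ?_⟩
      rcases Finset.mem_insert.1 hp with rfl | hp
      · refine ⟨t, ht, y * (c * v), Ideal.mul_mem_right _ _ hyq, ?_⟩
        have : t * (v * y ^ m) = v * (t * y ^ m) := by ring
        rw [this, htc]
        ring
      · obtain ⟨t', ht', c', hc', htc'⟩ := hvT p hp hpq
        refine ⟨t', ht', c' * y ^ m, Ideal.mul_mem_right _ _ hc', ?_⟩
        rw [← mul_assoc, htc']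
        ring

theorem exists_ne_zero_mem_all [IsDomain R] (s : Finset (Ideal R)) (hs : ∀ p ∈ s, p ≠ ⊥) :
    ∃ f : R, f ≠ 0 ∧ ∀ p ∈ s, f ∈ p := by
  classical
  induction s using Finset.induction_on with
  | empty => exact ⟨1, one_ne_zero, by simp⟩
  | insert q T hqT ih =>
    obtain ⟨f, hf, hfT⟩ := ih fun p hp ↦ hs p (Finset.mem_insert_of_mem hp)
    obtain ⟨y, hyq, hy⟩ := Submodule.exists_mem_ne_zero_of_ne_bot
      (hs q (Finset.mem_insert_self _ _))
    refine ⟨f * y, mul_ne_zero hf hy, fun p hp ↦ ?_⟩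
    rcases Finset.mem_insert.1 hp with rfl | hp
    · exact Ideal.mul_mem_left _ _ hyq
    · exact Ideal.mul_mem_right _ _ (hfT p hp)

theorem exists_reduced [IsDomain R] [IsNoetherianRing R] [IsLocalRing R]
    [IsIntegrallyClosed R] (hdim : ringKrullDim R = 2) (s : Finset (Ideal R))
    (hs : ∀ p ∈ s, p.IsPrime ∧ p.height = 1) :
    ∃ f : R, f ≠ 0 ∧ (∀ p ∈ s, f ∈ p) ∧ IsReduced (R ⧸ Ideal.span {f}) := by
  classical
  rcases s.eq_empty_or_nonempty with rfl | hne
  · refine ⟨1, one_ne_zero, by simp, ?_⟩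
    have : Subsingleton (R ⧸ Ideal.span {(1 : R)}) := by
      rw [Ideal.Quotient.subsingleton_iff, Ideal.span_singleton_one]
    infer_instance
  have hm2 : (maximalIdeal R).height = 2 := by
    have h1 := maximalIdeal_height_eq_ringKrullDim (R := R)
    rw [hdim] at h1
    exact WithBot.coe_injective h1
  obtain ⟨f₀, hf₀, hf₀s⟩ := exists_ne_zero_mem_all s
    fun p hp ↦ Ideal.ne_bot_of_height_eq_one (hs p hp).2
  have hf₀m : f₀ ∈ maximalIdeal R := by
    obtain ⟨p, hp⟩ := hne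
    exact le_maximalIdeal (hs p hp).1.ne_top (hf₀s p hp)
  have hmin : ∀ p ∈ minimalPrimes R, f₀ ∉ p := by
    intro p hp
    rw [IsDomain.minimalPrimes_eq_singleton_bot, Set.mem_singleton_iff] at hp
    rw [hp]
    simpa using hf₀
  obtain ⟨g, hg, hrad⟩ := K65.Sop.exists_sop_extending 2 hdim f₀ hf₀m hmin 0
  set x : R := g 0 with hx
  have hrange : Set.range g = {x} := by
    ext y
    simp only [Set.mem_range, Set.mem_singleton_iff]
    constructor
    · rintro ⟨i, rfl⟩
      rw [hx]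
      congr 1
      exact Subsingleton.elim (α := Fin 1) _ _
    · rintro rfl
      exact ⟨0, rfl⟩
  rw [hrange] at hrad
  have hxm : x ∈ maximalIdeal R := Ideal.pow_le_self one_ne_zero (hg 0)
  obtain ⟨N, hN⟩ := Ideal.exists_pow_le_of_le_radical_of_fg hrad
    (IsNoetherian.noetherian (IsLocalRing.maximalIdeal R))
  set J : Ideal R := Ideal.span {f₀, x} with hJ
  have hJm : J ≤ maximalIdeal R := by
    rw [hJ, Ideal.span_le]
    rintro y (rfl | rfl)
    · exact hf₀m
    · exact hxm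
  have hnx : ∀ f, Ideal.span {f, x} = J → f ∉ Ideal.span {x} := by
    intro f hfJ hfx
    have h1 : J = Ideal.span {x} := by
      rw [← hfJ]
      refine le_antisymm ?_ (Ideal.span_mono (by simp))
      rw [Ideal.span_le]
      rintro y (rfl | rfl)
      · exact hfx
      · exact Ideal.mem_span_singleton_self _
    have h2 : maximalIdeal R ∈ (Ideal.span {x}).minimalPrimes := by
      refine ⟨⟨inferInstance, by rw [← h1]; exact hJm⟩, fun P hP _ ↦ ?_⟩
      refine hrad.trans ?_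
      rw [h1]
      exact hP.1.radical_le_iff.2 hP.2
    have h3 := Ideal.height_le_one_of_isPrincipal_of_mem_minimalPrimes _ _ h2
    rw [hm2] at h3
    exact absurd h3 (by decide)
  have hxp : ∀ f, Ideal.span {f, x} = J → ∀ p : Ideal R, p.IsPrime → p.height = 1 → f ∈ p →
      x ∉ p := by
    intro f hfJ p hp hp1 hfp hxp
    have h1 : J ≤ p := by
      rw [← hfJ, Ideal.span_le]
      rintro y (rfl | rfl)
      · exact hfp
      · exact hxp
    have h2 : maximalIdeal R ≤ p := hrad.trans (hp.radical_le_iff.2 h1)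
    have h3 : p = maximalIdeal R := le_antisymm (le_maximalIdeal hp.ne_top) h2
    rw [h3, hm2] at hp1
    exact absurd hp1 (by decide)
  have hlen : Module.length R (R ⧸ J) ≠ ⊤ := by
    have hArt : IsArtinianRing (R ⧸ J) := by
      refine IsLocalRing.quotient_artinian_of_mem_minimalPrimes_of_isLocalRing _
        ⟨⟨inferInstance, hJm⟩, fun P hP _ ↦ ?_⟩
      exact hrad.trans (hP.1.radical_le_iff.2 hP.2)
    have : IsArtinian R (R ⧸ J) := by
      have hsurj : Function.Surjective (algebraMap R (R ⧸ J)) := Ideal.Quotient.mk_surjective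
      exact isArtinian_of_surjective_algebraMap hsurj
    exact Module.length_ne_top
  -- the bound on the number of height one primes
  have hbound : ∀ f, Ideal.span {f, x} = J → ∀ T : Finset (Ideal R),
      (∀ q ∈ T, q.IsPrime ∧ q.height = 1 ∧ f ∈ q) → (T.card : ℕ∞) ≤ Module.length R (R ⧸ J) := by
    intro f hfJ T hT
    rw [Module.length_quotient]
    refine (card_le_coheight x hxm T
      (fun p hp ↦ ⟨(hT p hp).1, hxp f hfJ p (hT p hp).1 (hT p hp).2.1 (hT p hp).2.2⟩)
      (fun p hp q hq hpq ↦ ?_)).trans (Order.coheight_anti ?_)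
    · have hqp := (hT q hq).1
      exact eq_of_le_height_one (hT p hp).1 (hT q hq).2.1
        (Ideal.ne_bot_of_height_eq_one (hT p hp).2.1) hpq
    · rw [← hfJ, Ideal.span_insert]
      refine sup_le_sup_right ?_ _
      rw [Ideal.span_singleton_le_iff_mem, Submodule.mem_finsetInf]
      exact fun q hq ↦ (hT q hq).2.2
  obtain ⟨f, T, ⟨hfJ, hfs, hT⟩, hmax⟩ : ∃ (f : R) (T : Finset (Ideal R)),
      (Ideal.span {f, x} = J ∧ (∀ p ∈ s, f ∈ p) ∧ (∀ q ∈ T, q.IsPrime ∧ q.height = 1 ∧ f ∈ q)) ∧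
      ∀ (f' : R) (T' : Finset (Ideal R)),
      (Ideal.span {f', x} = J ∧ (∀ p ∈ s, f' ∈ p) ∧ (∀ q ∈ T', q.IsPrime ∧ q.height = 1 ∧ f' ∈ q)) →
        T'.card ≤ T.card := by
    let A : Set ℕ := {n | ∃ (f : R) (T : Finset (Ideal R)),
      (Ideal.span {f, x} = J ∧ (∀ p ∈ s, f ∈ p) ∧ (∀ q ∈ T, q.IsPrime ∧ q.height = 1 ∧ f ∈ q)) ∧
        T.card = n}
    have hA0 : A.Nonempty := ⟨0, f₀, ∅, ⟨rfl, hf₀s, by simp⟩, rfl⟩
    have hAb : BddAbove A := by
      obtain ⟨L, hL⟩ := ENat.ne_top_iff_exists.1 hlen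
      refine ⟨L, ?_⟩
      rintro _ ⟨f, T, ⟨h1, h2, h3⟩, rfl⟩
      have := hbound f h1 T h3
      rw [← hL] at this
      exact_mod_cast this
    obtain ⟨f, T, h1, h2⟩ := Nat.sSup_mem hA0 hAb
    refine ⟨f, T, h1, fun f' T' h ↦ ?_⟩
    rw [h2]
    exact le_csSup hAb ⟨f', T', h, rfl⟩
  have hf0 : f ≠ 0 := by
    rintro rfl
    exact hnx 0 hfJ (Ideal.zero_mem _)
  have hall : ∀ f', Ideal.span {f', x} = J → (∀ p ∈ s, f' ∈ p) → (∀ q ∈ T, f' ∈ q) →
      ∀ q : Ideal R, q.IsPrime → q.height = 1 → f' ∈ q → q ∈ T := by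
    intro f' h1 h2 h3 q hq hq1 hfq
    by_contra hqT
    have := hmax f' (insert q T) ⟨h1, h2, ?_⟩
    · rw [Finset.card_insert_of_notMem hqT] at this
      omega
    · intro p hp
      rcases Finset.mem_insert.1 hp with rfl | hp
      · exact ⟨hq, hq1, hfq⟩
      · exact ⟨(hT p hp).1, (hT p hp).2.1, h3 p hp⟩
  have hTf : ∀ q ∈ T, f ∈ q := fun q hq ↦ (hT q hq).2.2
  refine ⟨f, hf0, hfs, ?_⟩
  by_contra hred
  -- a prime where `f` is not a uniformizer
  obtain ⟨q₁, hq₁T, hq₁f⟩ : ∃ q₁ ∈ T, ¬ ∀ a ∈ q₁, ∃ t ∉ q₁, ∃ c, t * a = f * c := by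
    by_contra hcon
    push Not at hcon
    apply hred
    rw [← Ideal.isRadical_iff_quotient_reduced]
    rintro a ⟨n, hn⟩
    refine Groth.Agent.Etalg.NormalDvr.mem_span_of_forall_height_one R hf0 fun P hP hP1 ↦ ?_
    by_cases hfP : f ∈ P
    · have haP : a ∈ P := hP.mem_of_pow_mem n
        ((Ideal.span_singleton_le_iff_mem (I := P)).2 hfP hn)
      obtain ⟨t, ht, c, htc⟩ := hcon P (hall f hfJ hfs hTf P hP hP1 hfP) a haP
      exact ⟨t, ht, Ideal.mem_span_singleton.2 ⟨c, htc⟩⟩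
    · exact ⟨f, hfP, Ideal.mul_mem_right _ _ (Ideal.mem_span_singleton_self f)⟩
  obtain ⟨hq₁, hq₁1, hfq₁⟩ := hT q₁ hq₁T
  obtain ⟨u, huq₁, hu0, hu⟩ := exists_unif hq₁1
  obtain ⟨t₀, ht₀, c₀, htc₀⟩ := hu f hfq₁
  have hc₀ : c₀ ∈ q₁ := by
    by_contra hc
    apply hq₁f
    intro a ha
    obtain ⟨t, ht, c, htc⟩ := hu a ha
    refine ⟨c₀ * t, fun h ↦ (hq₁.mem_or_mem h).elim hc ht, t₀ * c, ?_⟩
    have h1 : c₀ * t * a = c₀ * (t * a) := by ring
    have h2 : f * (t₀ * c) = (t₀ * f) * c := by ring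
    rw [h1, h2, htc, htc₀]
    ring
  obtain ⟨v, hvq₁, hv⟩ := exists_avoid hq₁1 hf0 T fun q hq ↦ ⟨(hT q hq).1, (hT q hq).2.1⟩
  obtain ⟨w, hwm, hwq₁⟩ : ∃ w ∈ maximalIdeal R ^ (N + 1), w ∉ q₁ := by
    have : ¬ maximalIdeal R ≤ q₁ := by
      intro hle
      have h3 : q₁ = maximalIdeal R := le_antisymm (le_maximalIdeal hq₁.ne_top) hle
      rw [h3, hm2] at hq₁1
      exact absurd hq₁1 (by decide)
    obtain ⟨w, hw, hwq⟩ := SetLike.not_le_iff_exists.1 this
    exact ⟨w ^ (N + 1), Ideal.pow_mem_pow hw _, fun h ↦ hwq (hq₁.mem_of_pow_mem _ h)⟩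
  set h : R := u * v * w with hh
  set f₂ : R := f + h with hf₂
  have hf₂J : Ideal.span {f₂, x} = J := by
    rw [hf₂, Groth.Agent.S7116.span_insert_add_eq f h {x}, hfJ]
    rw [hfJ]
    have h1 : h ∈ maximalIdeal R ^ (N + 1) := Ideal.mul_mem_left _ _ hwm
    rw [pow_succ'] at h1
    exact Ideal.mul_mono_right hN h1
  have hhT : ∀ q ∈ T, h ∈ q := by
    intro q hq
    by_cases hqq : q = q₁
    · rw [hqq]
      exact Ideal.mul_mem_right _ _ (Ideal.mul_mem_right _ _ huq₁)
    · obtain ⟨t, ht, c, hc, htc⟩ := hv q hq hqq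
      have h1 : t * v ∈ q := htc ▸ Ideal.mul_mem_left _ _ hc
      have h2 : v ∈ q := ((hT q hq).1.mem_or_mem h1).resolve_left ht
      exact Ideal.mul_mem_right _ _ (Ideal.mul_mem_left _ _ h2)
  have hf₂T : ∀ q ∈ T, f₂ ∈ q := fun q hq ↦ Ideal.add_mem _ (hTf q hq) (hhT q hq)
  have hf₂s : ∀ p ∈ s, f₂ ∈ p := fun p hp ↦
    hf₂T p (hall f hfJ hfs hTf p (hs p hp).1 (hs p hp).2 (hfs p hp))
  have hf₂0 : f₂ ≠ 0 := by
    intro h0
    exact hnx f₂ hf₂J (h0 ▸ Ideal.zero_mem _)
  set t₁ : R := c₀ + t₀ * v * w with ht₁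
  have ht₁q : t₁ ∉ q₁ := by
    intro h1
    have h2 : t₀ * v * w ∈ q₁ := by
      have := Ideal.sub_mem _ h1 hc₀
      rwa [ht₁, add_sub_cancel_left] at this
    rcases hq₁.mem_or_mem h2 with h3 | h3
    · exact (hq₁.mem_or_mem h3).elim ht₀ hvq₁
    · exact hwq₁ h3
  have hkey : t₀ * f₂ = u * t₁ := by
    rw [hf₂, hh, ht₁, mul_add, htc₀]
    ring
  have hdvd : f ∈ Ideal.span {f₂} := by
    refine Groth.Agent.Etalg.NormalDvr.mem_span_of_forall_height_one R hf₂0 fun P hP hP1 ↦ ?_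
    by_cases hfP : f₂ ∈ P
    · have hPT := hall f₂ hf₂J hf₂s hf₂T P hP hP1 hfP
      by_cases hPq : P = q₁
      · subst hPq
        refine ⟨t₁ * t₀, fun h1 ↦ (hP.mem_or_mem h1).elim ht₁q ht₀,
          Ideal.mem_span_singleton.2 ⟨t₀ * c₀, ?_⟩⟩
        have h1 : f₂ * (t₀ * c₀) = (t₀ * f₂) * c₀ := by ring
        rw [h1, hkey, mul_assoc, htc₀]
        ring
      · obtain ⟨t, ht, c, hc, htc⟩ := hv P hPT hPq
        refine ⟨t + u * w * c, fun h1 ↦ ?_, Ideal.mem_span_singleton.2 ⟨t, ?_⟩⟩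
        · apply ht
          have := Ideal.sub_mem _ h1 (Ideal.mul_mem_left P (u * w) hc)
          rwa [add_sub_cancel_right] at this
        · have h1 : f₂ * t = f * t + u * w * (t * v) := by rw [hf₂, hh]; ring
          rw [h1, htc]
          ring
    · exact ⟨f₂, hfP, Ideal.mul_mem_right _ _ (Ideal.mem_span_singleton_self f₂)⟩
  obtain ⟨c', hc'⟩ := Ideal.mem_span_singleton.1 hdvd
  have hc'm : c' ∈ maximalIdeal R := by
    rw [mem_maximalIdeal, mem_nonunits_iff]
    rintro ⟨e, he⟩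
    apply ht₁q
    have h1 : u * t₁ = u * (c₀ * (↑e⁻¹ : R)) := by
      rw [← hkey, ← mul_assoc, ← htc₀, hc', ← he]
      have h2 : t₀ * (f₂ * (e : R)) * (↑e⁻¹ : R) = t₀ * f₂ * ((e : R) * (↑e⁻¹ : R)) := by ring
      rw [h2, Units.mul_inv, mul_one]
    rw [mul_left_cancel₀ hu0 h1]
    exact Ideal.mul_mem_right _ _ hc₀
  apply hnx f₂ hf₂J
  have h1 : f₂ ∈ Ideal.span {f, x} := by
    rw [hfJ, ← hf₂J]
    exact Ideal.subset_span (by simp)
  rw [Ideal.mem_span_pair] at h1
  obtain ⟨a, b, hab⟩ := h1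
  have hu' : IsUnit (1 - a * c') := by
    by_contra hcon
    have h2 : 1 - a * c' ∈ maximalIdeal R := hcon
    have h3 : (1 : R) ∈ maximalIdeal R := by
      have := Ideal.add_mem _ h2 (Ideal.mul_mem_left _ a hc'm)
      rwa [sub_add_cancel] at this
    exact (mem_maximalIdeal _).1 h3 isUnit_one
  obtain ⟨e, he⟩ := hu'
  rw [Ideal.mem_span_singleton]
  refine ⟨b * (↑e⁻¹ : R), ?_⟩
  have h4 : f₂ * (e : R) = x * b := by
    rw [he]
    have : f₂ * (1 - a * c') = f₂ - a * (f₂ * c') := by ring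
    rw [this, ← hc']
    nth_rewrite 1 [← hab]
    ring
  calc f₂ = f₂ * (e : R) * (↑e⁻¹ : R) := by rw [mul_assoc, Units.mul_inv, mul_one]
    _ = x * (b * (↑e⁻¹ : R)) := by rw [h4, mul_assoc]

theorem exists_reduced_dvd_pow [IsDomain R] [IsNoetherianRing R] [IsLocalRing R]
    [IsIntegrallyClosed R] (hdim : ringKrullDim R = 2) (a : R) (ha0 : a ≠ 0) :
    ∃ c : R, c ≠ 0 ∧ IsReduced (R ⧸ Ideal.span {c}) ∧ ∃ n : ℕ, a ∣ c ^ n := by
  classical
  have hfin : ((Ideal.span {a}).minimalPrimes).Finite :=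
    Ideal.finite_minimalPrimes_of_isNoetherianRing R _
  let s : Finset (Ideal R) := hfin.toFinset.filter fun p ↦ p.height = 1
  obtain ⟨c, hc0, hcs, hred⟩ := exists_reduced hdim s (fun p hp ↦ by
    rw [Finset.mem_filter, Set.Finite.mem_toFinset] at hp
    exact ⟨hp.1.1.1, hp.2⟩)
  refine ⟨c, hc0, hred, ?_⟩
  have hms : ∀ P : Ideal R, P.IsPrime → P.height = 1 → a ∈ P → P ∈ s := by
    intro P hP hP1 haP
    rw [Finset.mem_filter, Set.Finite.mem_toFinset]
    refine ⟨⟨⟨hP, (Ideal.span_singleton_le_iff_mem _).2 haP⟩, fun Q hQ hQP ↦ ?_⟩, hP1⟩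
    refine (eq_of_le_height_one hQ.1 hP1 ?_ hQP).ge
    rintro rfl
    exact ha0 (by simpa using hQ.2)
  have hex : ∀ P : s, ∃ (m : ℕ) (t c' : R), t ∉ P.1 ∧ t * c ^ m = a * c' := by
    rintro ⟨P, hP⟩
    have hP' := hP
    rw [Finset.mem_filter, Set.Finite.mem_toFinset] at hP'
    have := hP'.1.1.1
    exact exists_mul_pow_eq hP'.2 ha0 (hcs P hP)
  choose m t c' ht htc using hex
  refine ⟨∑ P, m P, ?_⟩
  rw [← Ideal.mem_span_singleton]
  refine Groth.Agent.Etalg.NormalDvr.mem_span_of_forall_height_one R ha0 fun P hP hP1 ↦ ?_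
  by_cases haP : a ∈ P
  · have hPs := hms P hP hP1 haP
    refine ⟨t ⟨P, hPs⟩, ht ⟨P, hPs⟩, ?_⟩
    have hle : m ⟨P, hPs⟩ ≤ ∑ P, m P :=
      Finset.single_le_sum (fun _ _ ↦ Nat.zero_le _) (Finset.mem_univ _)
    rw [← Nat.add_sub_cancel' hle, pow_add, ← mul_assoc, htc]
    exact Ideal.mul_mem_right _ _ (Ideal.mul_mem_right _ _ (Ideal.mem_span_singleton_self _))
  · exact ⟨a, haP, Ideal.mul_mem_right _ _ (Ideal.mem_span_singleton_self _)⟩

end K65.NormalTwo
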