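import Mathlib.Algebra.Module.FinitePresentation
import Mathlib.RingTheory.FinitePresentation
import Mathlib.RingTheory.Finiteness.ModuleFinitePresentation

/-!
Finite presentation of a module relative to a base ring: change of presentation.
-/

set_option autoImplicit false
universe u v w

namespace K65.RelFP

section tower

variable {S : Type*} {T : Type*} [CommRing S] [CommRing T] [Algebra S T]
  {M : Type*} [AddCommGroup M] [Module T M] [Module S M] [IsScalarTower S T M]

variable (S T M) in
/-- If `T` is finite over `S`, a `T`-module which is finitely presented over `S` is finitely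
presented over `T`. -/
theorem fp_of_finite [Module.Finite S T] [Module.FinitePresentation S M] :
    Module.FinitePresentation T M := by
  have : Module.Finite T M := Module.Finite.of_restrictScalars_finite S T M
  obtain ⟨n, l, hl⟩ := Module.Finite.exists_fin' T M
  apply Module.finitePresentation_of_free_of_surjective l hl
  apply Submodule.FG.of_restrictScalars S
  exact Module.FinitePresentation.fg_ker (l.restrictScalars S) hl

theorem fp_iff_of_surjective (hsurj : Function.Surjective (algebraMap S T))
    (hker : (RingHom.ker (algebraMap S T)).FG) :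
    Module.FinitePresentation S M ↔ Module.FinitePresentation T M := by
  have h1 : Module.FinitePresentation S T :=
    Module.finitePresentation_of_surjective (Algebra.linearMap S T) hsurj hker
  constructor
  · intro _
    exact fp_of_finite S T M
  · intro _
    exact Module.FinitePresentation.trans S M T

theorem fp_iff_of_fp [Module.FinitePresentation S T] :
    Module.FinitePresentation S M ↔ Module.FinitePresentation T M := by
  constructor
  · intro _
    exact fp_of_finite S T M
  · intro _
    exact Module.FinitePresentation.trans S M T

end tower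

/-- Finite presentation of an `A`-module over `S`, through `f : S → A`. -/
def FPVia {S A : Type*} [CommRing S] [CommRing A] (f : S →+* A) (M : Type*) [AddCommGroup M]
    [Module A M] : Prop :=
  @Module.FinitePresentation S M _ _ (Module.compHom M f)

section

variable {S T A : Type*} [CommRing S] [CommRing T] [CommRing A]
  {M : Type*} [AddCommGroup M] [Module A M]

theorem fpVia_algebraMap [Algebra S A] [Module S M] [IsScalarTower S A M] :
    FPVia (algebraMap S A) M ↔ Module.FinitePresentation S M := by
  have h : Module.compHom M (algebraMap S A) = ‹Module S M› :=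
    Module.ext' _ _ (fun r m => algebraMap_smul A r m)
  unfold FPVia
  rw [h]

theorem fpVia_of_eq {f : S →+* A} [Module S M] (h : ∀ (s : S) (m : M), s • m = f s • m) :
    FPVia f M ↔ Module.FinitePresentation S M := by
  have h : Module.compHom M f = ‹Module S M› :=
    Module.ext' _ _ (fun r m => (h r m).symm)
  unfold FPVia
  rw [h]

theorem FPVia.equiv {f : S →+* A} {N : Type*} [AddCommGroup N] [Module A N] (e : M ≃ₗ[A] N)
    (h : FPVia f M) : FPVia f N := by
  let : Module S M := Module.compHom M f
  let : Module S N := Module.compHom N f
  have h' : Module.FinitePresentation S M := h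
  exact Module.FinitePresentation.of_equiv (R := S)
    ({ e with map_smul' := fun s m => e.map_smul (f s) m } : M ≃ₗ[S] N)

theorem fpVia_congr {f : S →+* A} {N : Type*} [AddCommGroup N] [Module A N] (e : M ≃ₗ[A] N) :
    FPVia f M ↔ FPVia f N := ⟨fun h => h.equiv e, fun h => h.equiv e.symm⟩

theorem fpVia_comp_iff (g : S →+* T) (hg : Function.Surjective g) (hker : (RingHom.ker g).FG)
    (f : T →+* A) : FPVia (f.comp g) M ↔ FPVia f M := by
  let : Algebra S T := g.toAlgebra
  let : Module T M := Module.compHom M f
  let : Module S M := Module.compHom M (f.comp g)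
  have : IsScalarTower S T M := IsScalarTower.of_algebraMap_smul (fun _ _ => rfl)
  exact fp_iff_of_surjective hg hker

theorem fpVia_comp_iff_of_fp [Algebra S T] [Module.FinitePresentation S T]
    (f : T →+* A) : FPVia (f.comp (algebraMap S T)) M ↔ FPVia f M := by
  let : Module T M := Module.compHom M f
  let : Module S M := Module.compHom M (f.comp (algebraMap S T))
  have : IsScalarTower S T M := IsScalarTower.of_algebraMap_smul (fun _ _ => rfl)
  exact fp_iff_of_fp (S := S) (T := T)

/-- No condition on the kernel is needed for one direction. -/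
theorem FPVia.of_comp (g : S →+* T) (hg : Function.Surjective g)
    (f : T →+* A) (h : FPVia (f.comp g) M) : FPVia f M := by
  let : Algebra S T := g.toAlgebra
  let : Module T M := Module.compHom M f
  let : Module S M := Module.compHom M (f.comp g)
  have : IsScalarTower S T M := IsScalarTower.of_algebraMap_smul (fun _ _ => rfl)
  have : Module.Finite S T := Module.Finite.of_surjective (Algebra.linearMap S T) hg
  have : Module.FinitePresentation S M := h
  exact fp_of_finite S T M

theorem fpVia_id : FPVia (RingHom.id A) M ↔ Module.FinitePresentation A M :=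
  fpVia_algebraMap (S := A) (A := A)

end

section indep

variable {R : Type*} [CommRing R] {A : Type*} [CommRing A] [Algebra R A]
  {M : Type*} [AddCommGroup M] [Module A M]

theorem fpVia_mvPolynomial_of {n k : ℕ}
    (α : MvPolynomial (Fin n) R →ₐ[R] A) (hα : Function.Surjective α)
    (β : MvPolynomial (Fin k) R →ₐ[R] A) :
    FPVia (MvPolynomial.aeval (R := R) (Sum.elim (fun i => α (MvPolynomial.X i))
      (fun j => β (MvPolynomial.X j)))).toRingHom M ↔ FPVia α.toRingHom M := by
  choose P hP using fun j => hα (β (MvPolynomial.X j))
  let π : MvPolynomial (Fin n ⊕ Fin k) R →ₐ[R] MvPolynomial (Fin n) R :=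
    MvPolynomial.aeval (Sum.elim MvPolynomial.X P)
  have hπ : Function.Surjective π := by
    intro p
    refine ⟨MvPolynomial.rename Sum.inl p, ?_⟩
    have h1 : π.comp (MvPolynomial.rename Sum.inl) = AlgHom.id R _ := by
      ext i
      simp [π]
    exact DFunLike.congr_fun h1 p
  have h2 : α.comp π = MvPolynomial.aeval (R := R) (Sum.elim (fun i => α (MvPolynomial.X i))
      (fun j => β (MvPolynomial.X j))) := by
    ext (i | j)
    · simp [π]
    · simp [π, hP]
  rw [← h2]
  exact fpVia_comp_iff π.toRingHom hπ (Algebra.FinitePresentation.ker_fG_of_surjective π hπ)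
    α.toRingHom

theorem fpVia_mvPolynomial_iff {n k : ℕ}
    (α : MvPolynomial (Fin n) R →ₐ[R] A) (hα : Function.Surjective α)
    (β : MvPolynomial (Fin k) R →ₐ[R] A) (hβ : Function.Surjective β) :
    FPVia α.toRingHom M ↔ FPVia β.toRingHom M := by
  rw [← fpVia_mvPolynomial_of α hα β, ← fpVia_mvPolynomial_of β hβ α]
  let ρ : MvPolynomial (Fin n ⊕ Fin k) R ≃ₐ[R] MvPolynomial (Fin k ⊕ Fin n) R :=
    MvPolynomial.renameEquiv R (Equiv.sumComm _ _)
  have h1 : (MvPolynomial.aeval (R := R) (Sum.elim (fun i => β (MvPolynomial.X i))
      (fun j => α (MvPolynomial.X j)))).comp ρ.toAlgHom =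
      MvPolynomial.aeval (R := R) (Sum.elim (fun i => α (MvPolynomial.X i))
      (fun j => β (MvPolynomial.X j))) := by
    ext (i | j)
    · simp [ρ]
    · simp [ρ]
  rw [← h1]
  have h2 : (RingHom.ker ρ.toAlgHom.toRingHom).FG := by
    have h3 : RingHom.ker ρ.toAlgHom.toRingHom = ⊥ := (RingHom.injective_iff_ker_eq_bot _).1 ρ.injective
    rw [h3]
    exact Submodule.fg_bot
  exact fpVia_comp_iff ρ.toAlgHom.toRingHom ρ.surjective h2 _

/-- Independence of the presentation, with finitely presented `R`-algebras mapping onto `A`. -/
theorem fpVia_iff {S S' : Type*} [CommRing S] [CommRing S'] [Algebra R S] [Algebra R S']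
    [Algebra.FinitePresentation R S] [Algebra.FinitePresentation R S']
    (α : S →ₐ[R] A) (hα : Function.Surjective α) (β : S' →ₐ[R] A) (hβ : Function.Surjective β) :
    FPVia α.toRingHom M ↔ FPVia β.toRingHom M := by
  obtain ⟨n, p, hp, hpk⟩ := Algebra.FinitePresentation.out (R := R) (A := S)
  obtain ⟨k, q, hq, hqk⟩ := Algebra.FinitePresentation.out (R := R) (A := S')
  rw [← fpVia_comp_iff p.toRingHom hp hpk α.toRingHom,
    ← fpVia_comp_iff q.toRingHom hq hqk β.toRingHom]
  exact fpVia_mvPolynomial_iff (α.comp p) (hα.comp hp) (β.comp q) (hβ.comp hq)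

end indep

/-- Finite extensions: `M` a `B`-module, `A → B` finite. -/
theorem fpVia_iff_of_finite {R A B : Type*} [CommRing R] [CommRing A] [CommRing B]
    [Algebra R A] [Algebra A B] [Algebra R B] [IsScalarTower R A B] [Module.Finite A B]
    {M : Type*} [AddCommGroup M] [Module B M]
    {S S' : Type*} [CommRing S] [CommRing S'] [Algebra R S] [Algebra R S']
    [Algebra.FinitePresentation R S] [Algebra.FinitePresentation R S']
    (α : S →ₐ[R] A) (hα : Function.Surjective α) (β : S' →ₐ[R] B) (hβ : Function.Surjective β) :
    FPVia ((algebraMap A B).comp α.toRingHom) M ↔ FPVia β.toRingHom M := by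
  let : Algebra S B := ((algebraMap A B).comp α.toRingHom).toAlgebra
  let : Algebra S A := α.toRingHom.toAlgebra
  have : IsScalarTower S A B := IsScalarTower.of_algebraMap_eq (fun _ => rfl)
  have : IsScalarTower R S B := IsScalarTower.of_algebraMap_eq (fun r => by
    show algebraMap R B r = algebraMap A B (α (algebraMap R S r))
    rw [AlgHom.commutes, ← IsScalarTower.algebraMap_apply])
  have : Module.Finite S A := Module.Finite.of_surjective (Algebra.linearMap S A) hα
  have : Module.Finite S B := Module.Finite.trans A B
  obtain ⟨T, _, _, _, _, _, f, hf⟩ := Module.Finite.exists_free_surjective S B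
  let : Algebra R T := ((algebraMap S T).comp (algebraMap R S)).toAlgebra
  have : IsScalarTower R S T := IsScalarTower.of_algebraMap_eq (fun _ => rfl)
  have : Algebra.FinitePresentation R T := Algebra.FinitePresentation.trans R S T
  have : Module.FinitePresentation S T := Module.finitePresentation_of_projective S T
  rw [← fpVia_iff (R := R) (f.restrictScalars R) hf β hβ]
  have h1 : (algebraMap A B).comp α.toRingHom =
      (f.restrictScalars R).toRingHom.comp (algebraMap S T) := by
    ext s
    exact (f.commutes s).symm
  rw [h1]
  exact fpVia_comp_iff_of_fp _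

end K65.RelFP
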