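import Groth.Agent.CAlg.K65.RelFP
import Mathlib.RingTheory.TensorProduct.MvPolynomial
import Mathlib.RingTheory.IsTensorProduct
import Mathlib.LinearAlgebra.TensorProduct.RightExactness
import Mathlib.LinearAlgebra.TensorProduct.Tower
import Mathlib.RingTheory.Finiteness.Ideal
import Mathlib.RingTheory.TensorProduct.Finite

/-!
Finite presentation of a module relative to a base ring: base change along a finitely presented
algebra.
-/

set_option autoImplicit false
universe u v w

namespace K65.RelFPBase

open K65.RelFP TensorProduct

attribute [local instance] MvPolynomial.algebraMvPolynomial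

/-- Quotients by finitely generated submodules. -/
theorem FPVia.of_surjective {S T : Type*} [CommRing S] [CommRing T] {f : S →+* T}
    (hf : Function.Surjective f)
    {M1 M2 : Type*} [AddCommGroup M1] [Module T M1] [AddCommGroup M2] [Module T M2]
    (l : M1 →ₗ[T] M2) (hl : Function.Surjective l) (hk : (LinearMap.ker l).FG)
    (h : FPVia f M1) : FPVia f M2 := by
  let : Algebra S T := f.toAlgebra
  let : Module S M1 := Module.compHom M1 f
  let : Module S M2 := Module.compHom M2 f
  have : IsScalarTower S T M1 := IsScalarTower.of_algebraMap_smul (fun _ _ => rfl)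
  have : IsScalarTower S T M2 := IsScalarTower.of_algebraMap_smul (fun _ _ => rfl)
  have : Module.FinitePresentation S M1 := h
  exact Module.finitePresentation_of_surjective (l.restrictScalars S) hl
    (Submodule.FG.restrictScalars_of_surjective hk hf)

/-- `A[z] ⊗ M` is finitely presented over `S[z]` if `M` is over `S`. -/
theorem fpVia_mvPolynomial {S A : Type*} [CommRing S] [CommRing A] [Algebra S A]
    (M : Type*) [AddCommGroup M] [Module A M] [Module S M] [IsScalarTower S A M]
    [Module.FinitePresentation S M] (m : ℕ) :
    FPVia (MvPolynomial.map (algebraMap S A) : MvPolynomial (Fin m) S →+* MvPolynomial (Fin m) A)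
      (MvPolynomial (Fin m) A ⊗[A] M) := by
  have h1 : Module.FinitePresentation (MvPolynomial (Fin m) S) (MvPolynomial (Fin m) S ⊗[S] M) :=
    inferInstance
  let e := Algebra.IsPushout.cancelBaseChange S (MvPolynomial (Fin m) S) A (MvPolynomial (Fin m) A) M
  have h2 : Module.FinitePresentation (MvPolynomial (Fin m) S) (MvPolynomial (Fin m) A ⊗[A] M) :=
    Module.FinitePresentation.of_equiv e.symm
  refine (fpVia_of_eq (f := MvPolynomial.map (algebraMap S A)) (S := MvPolynomial (Fin m) S) ?_).2 h2
  intro s x
  induction x with
  | zero => simp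
  | add x y hx hy => rw [smul_add, smul_add, hx, hy]
  | tmul p y =>
    rw [TensorProduct.smul_tmul', TensorProduct.smul_tmul', Algebra.smul_def, smul_eq_mul]
    rfl

/-- Base change along a finitely presented `A → A'`. -/
theorem fpVia_baseChange {R A A' : Type*} [CommRing R] [CommRing A] [CommRing A'] [Algebra R A]
    [Algebra A A'] [Algebra R A'] [IsScalarTower R A A'] [Algebra.FinitePresentation A A']
    (M : Type*) [AddCommGroup M] [Module A M]
    {S S' : Type*} [CommRing S] [CommRing S'] [Algebra R S] [Algebra R S']
    [Algebra.FinitePresentation R S] [Algebra.FinitePresentation R S']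
    (α : S →ₐ[R] A) (hα : Function.Surjective α) (hM : FPVia α.toRingHom M)
    (γ : S' →ₐ[R] A') (hγ : Function.Surjective γ) :
    FPVia γ.toRingHom (A' ⊗[A] M) := by
  obtain ⟨m, p, hp, hpk⟩ := Algebra.FinitePresentation.out (R := A) (A := A')
  let T := MvPolynomial (Fin m) A
  -- structures
  let : Algebra S A := α.toRingHom.toAlgebra
  let : Module S M := Module.compHom M α.toRingHom
  have : IsScalarTower S A M := IsScalarTower.of_algebraMap_smul (fun _ _ => rfl)
  have hMS : Module.FinitePresentation S M := hM
  have hMA : Module.Finite A M := Module.Finite.of_restrictScalars_finite S A M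
  have h1 := fpVia_mvPolynomial (S := S) (A := A) M m
  let : Module T (A' ⊗[A] M) := Module.compHom (A' ⊗[A] M) p.toRingHom
  let l0 : T ⊗[A] M →ₗ[A] A' ⊗[A] M := LinearMap.rTensor M p.toLinearMap
  let l : T ⊗[A] M →ₗ[T] A' ⊗[A] M :=
    { l0 with
      map_smul' := fun t x => by
        show l0 (t • x) = p t • l0 x
        induction x with
        | zero => simp
        | add x y hx hy => rw [smul_add, map_add, map_add, smul_add, hx, hy]
        | tmul q y =>
          rw [TensorProduct.smul_tmul']
          show p (t * q) ⊗ₜ y = p t • (p q ⊗ₜ y)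
          rw [TensorProduct.smul_tmul', map_mul]
          rfl }
  have hl : Function.Surjective l := LinearMap.rTensor_surjective M hp
  let J : Ideal T := RingHom.ker p.toRingHom
  have hJ : J.FG := hpk
  let j : J ⊗[A] M →ₗ[T] T ⊗[A] M := TensorProduct.AlgebraTensorModule.map J.subtype LinearMap.id
  have hJfin : Module.Finite T J := Module.Finite.of_fg hJ
  have hfin : Module.Finite T (J ⊗[A] M) :=
    Module.Finite.equiv (TensorProduct.AlgebraTensorModule.cancelBaseChange A T T J M)
  have hker : LinearMap.ker l = LinearMap.range j := by
    have h2 : Function.Exact (LinearMap.rTensor M (J.subtype.restrictScalars A))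
        (LinearMap.rTensor M p.toLinearMap) := by
      apply rTensor_exact M _ hp
      intro x
      constructor
      · intro hx
        exact ⟨⟨x, hx⟩, rfl⟩
      · rintro ⟨y, rfl⟩
        exact y.2
    ext x
    exact h2 x
  have hkfg : (LinearMap.ker l).FG := by
    rw [hker, LinearMap.range_eq_map]
    exact Submodule.FG.map _ Module.Finite.fg_top
  have hαm : Function.Surjective (MvPolynomial.map (algebraMap S A) :
      MvPolynomial (Fin m) S →+* MvPolynomial (Fin m) A) := MvPolynomial.map_surjective _ hα
  have h3 : FPVia (MvPolynomial.map (algebraMap S A) : MvPolynomial (Fin m) S →+* T)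
      (A' ⊗[A] M) := FPVia.of_surjective hαm l hl hkfg h1
  -- the composite presentation
  have hfp : Algebra.FinitePresentation R (MvPolynomial (Fin m) S) :=
    Algebra.FinitePresentation.trans R S (MvPolynomial (Fin m) S)
  let δ : MvPolynomial (Fin m) S →ₐ[R] A' :=
    { (p.toRingHom.comp (MvPolynomial.map (algebraMap S A))) with
      commutes' := fun r => by
        show p (MvPolynomial.map (algebraMap S A) (MvPolynomial.C (algebraMap R S r))) = _
        rw [MvPolynomial.map_C]
        show p (algebraMap A T (α (algebraMap R S r))) = _
        rw [AlgHom.commutes, AlgHom.commutes, ← IsScalarTower.algebraMap_apply] }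
  have hδ : Function.Surjective δ := hp.comp hαm
  have h4 : FPVia δ.toRingHom (A' ⊗[A] M) := h3
  exact (fpVia_iff (R := R) δ hδ γ hγ).1 h4

end K65.RelFPBase
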