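import Groth.Agent.CAlg.K65.RelFPBase
import Mathlib.RingTheory.Localization.BaseChange
import Mathlib.Algebra.Module.LocalizedModule.Basic
import Mathlib.RingTheory.Localization.Away.Basic
import Mathlib.RingTheory.Localization.Away.AdjoinRoot
import Mathlib.RingTheory.LocalProperties.FinitePresentation
import Mathlib.RingTheory.Localization.Module

/-!
Finite presentation of a module relative to a base ring: localization.
-/

set_option autoImplicit false
universe u v w

namespace K65.RelFPLoc

open K65.RelFP K65.RelFPBase TensorProduct

theorem fpVia_localizedModule {R A : Type*} [CommRing R] [CommRing A] [Algebra R A]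
    (M : Type*) [AddCommGroup M] [Module A M] (g : A)
    {S S' : Type*} [CommRing S] [CommRing S'] [Algebra R S] [Algebra R S']
    [Algebra.FinitePresentation R S] [Algebra.FinitePresentation R S']
    (α : S →ₐ[R] A) (hα : Function.Surjective α) (hM : FPVia α.toRingHom M)
    (γ : S' →ₐ[R] Localization.Away g) (hγ : Function.Surjective γ) :
    FPVia γ.toRingHom (LocalizedModule (Submonoid.powers g) M) := by
  have hfp : Algebra.FinitePresentation A (Localization.Away g) :=
    IsLocalization.Away.finitePresentation g
  have h1 := fpVia_baseChange (A' := Localization.Away g) M α hα hM γ hγ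
  let e := ((isLocalizedModule_iff_isBaseChange (Submonoid.powers g) (Localization.Away g)
    (LocalizedModule.mkLinearMap (Submonoid.powers g) M)).1 inferInstance).equiv
  exact h1.equiv e

/-- The local pieces, over the localized presentation ring. -/
theorem fp_away {R A S : Type*} [CommRing R] [CommRing A] [CommRing S] [Algebra R A]
    [Algebra R S] [Algebra S A] [IsScalarTower R S A]
    [Algebra.FinitePresentation R S] (hα : Function.Surjective (algebraMap S A))
    (M : Type*) [AddCommGroup M] [Module A M] [Module S M] [IsScalarTower S A M] (F : S)
    {S' : Type*} [CommRing S'] [Algebra R S'] [Algebra.FinitePresentation R S']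
    (γ : S' →ₐ[R] Localization.Away (algebraMap S A F)) (hγ : Function.Surjective γ)
    (h : FPVia γ.toRingHom (LocalizedModule (Submonoid.powers (algebraMap S A F)) M)) :
    Module.FinitePresentation (Localization.Away F) (LocalizedModule.Away F M) := by
  let N := LocalizedModule (Submonoid.powers (algebraMap S A F)) M
  let LN : M →ₗ[A] N := LocalizedModule.mkLinearMap (Submonoid.powers (algebraMap S A F)) M
  let SF := Localization.Away F
  let Af := Localization.Away (algebraMap S A F)
  let φ : SF →+* Af := Localization.awayMap (algebraMap S A) F
  have hφ : ∀ s : S, φ (algebraMap S SF s) = algebraMap A Af (algebraMap S A s) := fun s =>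
    IsLocalization.map_eq _ _
  let φR : SF →ₐ[R] Af :=
    { φ with
      commutes' := fun r => by
        show φ (algebraMap R SF r) = algebraMap R Af r
        rw [IsScalarTower.algebraMap_apply R S SF, hφ, ← IsScalarTower.algebraMap_apply R S A,
          ← IsScalarTower.algebraMap_apply R A Af] }
  have hφs : Function.Surjective φR := by
    show Function.Surjective (Localization.awayMap (algebraMap S A) F)
    rw [Localization.awayMap_surjective_iff]
    intro a
    obtain ⟨b, rfl⟩ := hα a
    exact ⟨b, 0, by simp⟩
  have h1 : FPVia φR.toRingHom N := (fpVia_iff (R := R) γ hγ φR hφs).1 h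
  let : Module SF N := Module.compHom N φ
  have : IsScalarTower S A N := inferInstance
  have : IsScalarTower S SF N := IsScalarTower.of_algebraMap_smul (fun s n => by
    rw [← algebraMap_smul A s n]
    show φ (algebraMap S SF s) • n = algebraMap S A s • n
    rw [hφ, algebraMap_smul])
  have h2 : Module.FinitePresentation SF N := h1
  have h3 : IsLocalizedModule (Submonoid.powers F) (LN.restrictScalars S) :=
    IsLocalizedModule.restrictScalars_powers F LN
  let e : LocalizedModule (Submonoid.powers F) M ≃ₗ[S] N :=
    IsLocalizedModule.iso (Submonoid.powers F) (LN.restrictScalars S)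
  let e' := LinearEquiv.extendScalarsOfIsLocalization (Submonoid.powers F) SF e
  exact Module.FinitePresentation.of_equiv e'.symm

/-- Finite presentation relative to the base is local for the Zariski topology. -/
theorem fpVia_of_span {R A S : Type*} [CommRing R] [CommRing A] [CommRing S] [Algebra R A]
    [Algebra R S] [Algebra.FinitePresentation R S] (α : S →ₐ[R] A) (hα : Function.Surjective α)
    (M : Type*) [AddCommGroup M] [Module A M] {r : ℕ} (f : Fin r → A)
    (hf : Ideal.span (Set.range f) = ⊤)
    (S' : Fin r → Type*) [∀ i, CommRing (S' i)] [∀ i, Algebra R (S' i)]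
    [∀ i, Algebra.FinitePresentation R (S' i)]
    (γ : ∀ i, S' i →ₐ[R] Localization.Away (f i)) (hγ : ∀ i, Function.Surjective (γ i))
    (h : ∀ i, FPVia (γ i).toRingHom (LocalizedModule (Submonoid.powers (f i)) M)) :
    FPVia α.toRingHom M := by
  let : Algebra S A := α.toRingHom.toAlgebra
  let : Module S M := Module.compHom M α.toRingHom
  have : IsScalarTower S A M := IsScalarTower.of_algebraMap_smul (fun _ _ => rfl)
  have : IsScalarTower R S A := IsScalarTower.of_algebraMap_eq (fun r => (α.commutes r).symm)
  choose F hF using fun i => hα (f i)
  have hF' : f = fun i => algebraMap S A (F i) := funext fun i => (hF i).symm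
  subst hF'
  -- a partition of unity
  have h1 : (1 : A) ∈ Ideal.span (Set.range fun i => algebraMap S A (F i)) := by rw [hf]; trivial
  rw [Ideal.mem_span_range_iff_exists_fun] at h1
  obtain ⟨c, hc⟩ := h1
  choose C hC using fun i => hα (c i)
  let G : S := 1 - ∑ i, C i * F i
  have hG : α G = 0 := by
    rw [map_sub, map_one, map_sum, sub_eq_zero, ← hc]
    refine Finset.sum_congr rfl (fun i _ => ?_)
    rw [map_mul, hC, hF]
  let s : Set S := insert G (Set.range F)
  have hs : Ideal.span s = ⊤ := by
    rw [Ideal.eq_top_iff_one]
    have h2 : (1 : S) = G + ∑ i, C i * F i := by simp [G]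
    rw [h2]
    refine Ideal.add_mem _ (Ideal.subset_span (Set.mem_insert _ _))
      (Ideal.sum_mem _ (fun i _ => Ideal.mul_mem_left _ _ (Ideal.subset_span
        (Set.mem_insert_of_mem _ ⟨i, rfl⟩))))
  refine Module.FinitePresentation.of_localizationSpan s hs ?_
  rintro ⟨g, hg⟩
  rcases hg with rfl | ⟨i, rfl⟩
  · have : Subsingleton (LocalizedModule.Away G M) := by
      refine ⟨fun x y => ?_⟩
      have h0 : ∀ x : LocalizedModule.Away G M, x = 0 := by
        intro x
        induction x using LocalizedModule.induction_on with
        | h m t =>
          rw [← LocalizedModule.mk_cancel_common_left ⟨G, Submonoid.mem_powers G⟩ t m]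
          have h3 : (⟨G, Submonoid.mem_powers G⟩ : Submonoid.powers G) • m = 0 := by
            show α G • m = 0
            rw [hG, zero_smul]
          rw [h3, LocalizedModule.zero_mk]
      rw [h0 x, h0 y]
    infer_instance
  · exact fp_away (R := R) hα M (F i) (γ i) (hγ i) (h i)

end K65.RelFPLoc
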