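import Mathlib.LinearAlgebra.Matrix.Determinant.Basic
import Mathlib.LinearAlgebra.Matrix.NonsingularInverse
import Mathlib.LinearAlgebra.Dimension.Constructions
import Mathlib.LinearAlgebra.FiniteDimensional.Basic
import Mathlib.LinearAlgebra.FiniteDimensional.Lemmas
import Mathlib.RingTheory.Localization.FractionRing
import Mathlib.RingTheory.Localization.Integer
import Mathlib.RingTheory.Ideal.Quotient.Operations
import Mathlib.LinearAlgebra.LinearIndependent.Lemmas
import Mathlib.LinearAlgebra.Matrix.ToLin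

/-!
The free rank of a submodule at a prime, for Serre's splitting theorem.
-/

set_option autoImplicit false
universe u v w

namespace K65.SerreRank

section field

variable {K : Type*} [Field K]

/-- Linearly independent functions have a nonvanishing minor. -/
theorem exists_det_ne_zero {X : Type*} : ∀ (j : ℕ) (w : Fin j → X → K), LinearIndependent K w →
    ∃ x : Fin j → X, (Matrix.of fun i l => w l (x i)).det ≠ 0 := by
  intro j
  induction j with
  | zero =>
    intro w _
    exact ⟨fun i => i.elim0, by simp⟩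
  | succ j ih =>
    intro w hw
    obtain ⟨x, hx⟩ := ih (fun l => w l.succ) (hw.comp _ (Fin.succ_injective _))
    by_contra hcon
    push Not at hcon
    -- expand along the first row
    let c : Fin (j + 1) → K := fun l => (-1) ^ (l : ℕ) *
      (Matrix.of fun (i : Fin j) (l' : Fin j) => w (l.succAbove l') (x i)).det
    have hc : ∑ l, c l • w l = 0 := by
      funext z
      have h1 := hcon (Fin.cons z x)
      rw [Matrix.det_succ_row_zero] at h1
      rw [Finset.sum_apply]
      simp only [Pi.smul_apply, smul_eq_mul, Pi.zero_apply]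
      rw [← h1]
      refine Finset.sum_congr rfl (fun l _ => ?_)
      have h2 : (Matrix.of fun i l => w l ((Fin.cons z x : Fin (j + 1) → X) i)).submatrix
          Fin.succ l.succAbove = Matrix.of fun (i : Fin j) (l' : Fin j) => w (l.succAbove l') (x i) := by
        ext i l'
        simp
      rw [h2]
      simp only [c, Matrix.of_apply, Fin.cons_zero]
      ring
    have h3 := Fintype.linearIndependent_iff.1 hw c hc 0
    apply hx
    simpa [c] using h3

theorem exists_li_of_le {V : Type*} [AddCommGroup V] [Module K V] (t : Set V) (j : ℕ)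
    [FiniteDimensional K (Submodule.span K t)]
    (h : j ≤ Module.finrank K (Submodule.span K t)) :
    ∃ w : Fin j → V, (∀ l, w l ∈ t) ∧ LinearIndependent K w := by
  obtain ⟨b, hb, hspan, hli⟩ := exists_linearIndependent K t
  have hcard : (j : Cardinal) ≤ Cardinal.mk b := by
    rw [← rank_span_set hli, hspan, ← Module.finrank_eq_rank]
    exact_mod_cast h
  have h1 : Cardinal.lift.{_, 0} (Cardinal.mk (Fin j)) ≤ Cardinal.lift.{0} (Cardinal.mk b) := by
    simpa using hcard
  obtain ⟨f⟩ := Cardinal.lift_mk_le'.1 h1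
  exact ⟨fun l => (f l).1, fun l => hb (f l).2, hli.comp _ f.injective⟩

end field

variable {R : Type u} [CommRing R] {M : Type v} [AddCommGroup M] [Module R M]

/-- The residue field at `p`. -/
abbrev Kp (p : Ideal R) [p.IsPrime] := FractionRing (R ⧸ p)

theorem algebraMap_eq_zero_iff (p : Ideal R) [p.IsPrime] (x : R) :
    algebraMap R (Kp p) x = 0 ↔ x ∈ p := by
  rw [IsScalarTower.algebraMap_apply R (R ⧸ p) (Kp p),
    FaithfulSMul.algebraMap_eq_zero_iff (R ⧸ p) (Kp p)]
  exact Ideal.Quotient.eq_zero_iff_mem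

/-- All linear forms, with values in the residue field at `p`. -/
noncomputable def ev (p : Ideal R) [p.IsPrime] : M →ₗ[R] ((M →ₗ[R] R) → Kp p) :=
  LinearMap.pi (fun φ => Algebra.linearMap R (Kp p) ∘ₗ φ)

theorem ev_apply (p : Ideal R) [p.IsPrime] (x : M) (φ : M →ₗ[R] R) :
    ev p x φ = algebraMap R (Kp p) (φ x) := rfl

/-- The span of the image of `N`. -/
noncomputable def W (p : Ideal R) [p.IsPrime] (N : Submodule R M) :
    Submodule (Kp p) ((M →ₗ[R] R) → Kp p) :=
  Submodule.span (Kp p) (ev p '' N)

theorem W_mono (p : Ideal R) [p.IsPrime] {N N' : Submodule R M} (h : N ≤ N') : W p N ≤ W p N' :=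
  Submodule.span_mono (Set.image_mono h)

theorem mem_W (p : Ideal R) [p.IsPrime] {N : Submodule R M} {x : M} (hx : x ∈ N) :
    ev p x ∈ W p N := Submodule.subset_span ⟨x, hx, rfl⟩

theorem W_le_iff (p : Ideal R) [p.IsPrime] {N : Submodule R M}
    {V : Submodule (Kp p) ((M →ₗ[R] R) → Kp p)} : W p N ≤ V ↔ ∀ x ∈ N, ev p x ∈ V := by
  unfold W
  rw [Submodule.span_le]
  exact ⟨fun h x hx => h ⟨x, hx, rfl⟩, by rintro h _ ⟨x, hx, rfl⟩; exact h x hx⟩

theorem W_span (p : Ideal R) [p.IsPrime] (s : Set M) :
    W p (Submodule.span R s) = Submodule.span (Kp p) (ev p '' s) := by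
  apply le_antisymm
  · rw [W_le_iff]
    intro x hx
    induction hx using Submodule.span_induction with
    | mem x hx => exact Submodule.subset_span ⟨x, hx, rfl⟩
    | zero => rw [map_zero]; exact Submodule.zero_mem _
    | add x y _ _ hx hy => rw [map_add]; exact Submodule.add_mem _ hx hy
    | smul a x _ hx =>
      rw [map_smul, ← algebraMap_smul (Kp p) a]
      exact Submodule.smul_mem _ _ hx
  · exact Submodule.span_mono (Set.image_mono Submodule.subset_span)

theorem W_sup (p : Ideal R) [p.IsPrime] (N N' : Submodule R M) :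
    W p (N ⊔ N') = W p N ⊔ W p N' := by
  apply le_antisymm
  · rw [W_le_iff]
    intro x hx
    obtain ⟨y, hy, z, hz, rfl⟩ := Submodule.mem_sup.1 hx
    rw [map_add]
    exact Submodule.add_mem_sup (mem_W p hy) (mem_W p hz)
  · exact sup_le (W_mono p le_sup_left) (W_mono p le_sup_right)

theorem finite_W (p : Ideal R) [p.IsPrime] {N : Submodule R M} (hN : N.FG) :
    FiniteDimensional (Kp p) (W p N) := by
  obtain ⟨s, rfl⟩ := hN
  rw [W_span]
  exact FiniteDimensional.span_of_finite _ (s.finite_toSet.image _)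

/-- The free rank of `N` in `M` at `p`. -/
noncomputable def rk (p : Ideal R) [p.IsPrime] (N : Submodule R M) : ℕ :=
  Module.finrank (Kp p) (W p N)

theorem rk_mono (p : Ideal R) [p.IsPrime] {N N' : Submodule R M} (h : N ≤ N') (hN' : N'.FG) :
    rk p N ≤ rk p N' := by
  have := finite_W p hN'
  exact Submodule.finrank_mono (W_mono p h)

theorem rk_sup_span_singleton_le (p : Ideal R) [p.IsPrime] {N : Submodule R M} (hN : N.FG)
    (t : M) : rk p (N ⊔ Submodule.span R {t}) ≤ rk p N + 1 := by
  have := finite_W p hN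
  unfold rk
  rw [W_sup, W_span, Set.image_singleton]
  refine (Submodule.finrank_add_le_finrank_add_finrank _ _).trans ?_
  exact Nat.add_le_add_left ((finrank_span_le_card _).trans (by simp)) _

theorem rk_sup_span_singleton_eq (p : Ideal R) [p.IsPrime] {N : Submodule R M} (t : M)
    (c : R) (hc : c ∉ p) (n : M) (hn : n ∈ N) (h : ev p (c • t - n) = 0) :
    rk p (N ⊔ Submodule.span R {t}) = rk p N := by
  unfold rk
  have h1 : ev p t ∈ W p N := by
    rw [map_sub, sub_eq_zero, map_smul, ← algebraMap_smul (Kp p) c] at h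
    have h2 : algebraMap R (Kp p) c ≠ 0 := fun h3 => hc ((algebraMap_eq_zero_iff p c).1 h3)
    have h3 : ev p t = (algebraMap R (Kp p) c)⁻¹ • ev p n := by
      rw [← h, smul_smul, inv_mul_cancel₀ h2, one_smul]
    rw [h3]
    exact Submodule.smul_mem _ _ (mem_W p hn)
  rw [W_sup, W_span, Set.image_singleton]
  have h2 : W p N ⊔ Submodule.span (Kp p) {ev p t} = W p N := by
    rw [sup_eq_left, Submodule.span_singleton_le_iff_mem]
    exact h1
  rw [h2]

/-- Semicontinuity. -/
theorem le_rk_iff (p : Ideal R) [p.IsPrime] {N : Submodule R M} (hN : N.FG) (j : ℕ) :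
    j ≤ rk p N ↔ ∃ (y : Fin j → M) (φ : Fin j → (M →ₗ[R] R)), (∀ l, y l ∈ N) ∧
      (Matrix.of fun i l => φ i (y l)).det ∉ p := by
  have hmap : ∀ (y : Fin j → M) (φ : Fin j → (M →ₗ[R] R)),
      (Matrix.of fun i l => ev p (y l) (φ i)).det =
        algebraMap R (Kp p) (Matrix.of fun i l => φ i (y l)).det := by
    intro y φ
    rw [RingHom.map_det]
    rfl
  have hfin := finite_W p hN
  constructor
  · intro h
    have : FiniteDimensional (Kp p) (Submodule.span (Kp p) (ev p '' (N : Set M))) := hfin
    obtain ⟨w, hw, hli⟩ := exists_li_of_le (K := Kp p) (ev p '' (N : Set M)) j h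
    choose y hy hyw using hw
    obtain ⟨φ, hφ⟩ := exists_det_ne_zero j w hli
    refine ⟨y, φ, hy, ?_⟩
    rw [← algebraMap_eq_zero_iff p, ← hmap]
    have h2 : w = fun l => ev p (y l) := funext fun l => (hyw l).symm
    rw [h2] at hφ
    exact hφ
  · rintro ⟨y, φ, hy, hdet⟩
    rw [← algebraMap_eq_zero_iff p, ← hmap] at hdet
    have hli0 : LinearIndependent (Kp p) (fun l => fun i => ev p (y l) (φ i)) := by
      have h1 := Matrix.linearIndependent_rows_of_det_ne_zero
        (A := (Matrix.of fun i l => ev p (y l) (φ i)).transpose) (by rwa [Matrix.det_transpose])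
      exact h1
    have hli : LinearIndependent (Kp p) (fun l => ev p (y l)) :=
      LinearIndependent.of_comp (LinearMap.funLeft (Kp p) (Kp p) φ) hli0
    have h1 : Submodule.span (Kp p) (Set.range fun l => ev p (y l)) ≤ W p N := by
      rw [Submodule.span_le]
      rintro _ ⟨l, rfl⟩
      exact mem_W p (hy l)
    have h2 := Submodule.finrank_mono h1
    rw [finrank_span_eq_card hli, Fintype.card_fin] at h2
    exact h2

/-- A relation with coefficients in `R`. -/
theorem exists_relation (p : Ideal R) [p.IsPrime] {k : ℕ} (s : Fin k → M)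
    (h : rk p (Submodule.span R (Set.range s)) < k) :
    ∃ c : Fin k → R, (∃ i, c i ∉ p) ∧ ev p (∑ i, c i • s i) = 0 := by
  have hnli : ¬ LinearIndependent (Kp p) (fun i => ev p (s i)) := by
    intro hli
    have h1 := finrank_span_eq_card hli
    unfold rk at h
    rw [W_span, ← Set.range_comp] at h
    rw [Fintype.card_fin] at h1
    exact absurd h1 (ne_of_lt h)
  obtain ⟨g, hg, i0, hi0⟩ := Fintype.not_linearIndependent_iff.1 hnli
  obtain ⟨b, hb⟩ := IsLocalization.exist_integer_multiples (nonZeroDivisors (R ⧸ p)) Finset.univ g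
  have hb' : ∀ i, ∃ c : R, algebraMap R (Kp p) c = (algebraMap (R ⧸ p) (Kp p) b) * g i := by
    intro i
    obtain ⟨c, hc⟩ := hb i (Finset.mem_univ i)
    obtain ⟨c, rfl⟩ := Ideal.Quotient.mk_surjective c
    refine ⟨c, ?_⟩
    rw [← Algebra.smul_def]
    exact hc
  choose c hc using hb'
  have hb0 : algebraMap (R ⧸ p) (Kp p) b ≠ 0 := by
    rw [Ne, FaithfulSMul.algebraMap_eq_zero_iff (R ⧸ p) (Kp p)]
    exact nonZeroDivisors.ne_zero b.2
  refine ⟨c, ⟨i0, ?_⟩, ?_⟩
  · rw [← algebraMap_eq_zero_iff p, hc]
    exact mul_ne_zero hb0 hi0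
  · rw [map_sum]
    have h1 : ∀ i, ev p (c i • s i) = (algebraMap (R ⧸ p) (Kp p) b) • (g i • ev p (s i)) := by
      intro i
      rw [map_smul, ← algebraMap_smul (Kp p) (c i), hc, mul_smul]
    rw [Finset.sum_congr rfl (fun i _ => h1 i), ← Finset.smul_sum, hg, smul_zero]

end K65.SerreRank
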