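import Groth.Agent.CAlg.K65.SerreRank
import Mathlib.Order.Minimal
import Mathlib.Order.Preorder.Finite
import Mathlib.RingTheory.Ideal.Operations

/-!
The reduction step in Serre's splitting theorem.
-/

set_option autoImplicit false
universe u v w

namespace K65.SerreReduce

open K65.SerreRank

/-- Avoiding finitely many affine hyperplanes over residue fields of distinct primes. -/
theorem exists_avoid {R : Type*} [CommRing R] {ι : Type*} {k : ℕ} (p : ι → Ideal R)
    [∀ i, (p i).IsPrime] (c : ι → Fin k → R) (e : ι → R) :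
    ∀ (n : ℕ) (S : Finset ι) (_ : S.card = n) (_ : Set.InjOn p S)
      (_ : ∀ i ∈ S, (∃ l, c i l ∉ p i) ∨ e i ∉ p i),
      ∃ a : Fin k → R, ∀ i ∈ S, ∑ l, c i l * a l - e i ∉ p i := by
  classical
  intro n
  induction n with
  | zero =>
    intro S hS _ _
    rw [Finset.card_eq_zero] at hS
    subst hS
    exact ⟨0, by simp⟩
  | succ n ih =>
    intro S hS hinj hc
    have hne : S.Nonempty := by
      rw [← Finset.card_pos, hS]; exact Nat.succ_pos n
    obtain ⟨i0, hi0⟩ := S.exists_minimalFor p hne
    have hi0S : i0 ∈ S := hi0.1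
    obtain ⟨a, ha⟩ := ih (S.erase i0) (by rw [Finset.card_erase_of_mem hi0S, hS]; rfl)
      (hinj.mono (by simp)) (fun i hi => hc i (Finset.mem_of_mem_erase hi))
    by_cases h0 : ∑ l, c i0 l * a l - e i0 ∈ p i0
    · -- modify `a`
      have hl : ∃ l, c i0 l ∉ p i0 := by
        rcases hc i0 hi0S with h | h
        · exact h
        · by_contra hcon
          push Not at hcon
          apply h
          have h1 : ∑ l, c i0 l * a l ∈ p i0 :=
            Submodule.sum_mem _ (fun l _ => Ideal.mul_mem_right _ _ (hcon l))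
          have h2 := Ideal.sub_mem _ h1 h0
          rwa [sub_sub_cancel] at h2
      obtain ⟨l0, hl0⟩ := hl
      have hb : ∃ b, b ∉ p i0 ∧ ∀ i ∈ S.erase i0, b ∈ p i := by
        have h1 : ∀ i ∈ S.erase i0, ∃ b ∈ p i, b ∉ p i0 := by
          intro i hi
          apply SetLike.not_le_iff_exists.1
          intro hle
          have h2 : p i0 ≤ p i := hi0.2 (Finset.mem_of_mem_erase hi) hle
          have h3 : i = i0 := hinj (Finset.mem_of_mem_erase hi) hi0S (le_antisymm hle h2)
          exact (Finset.ne_of_mem_erase hi) h3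
        choose! b hb1 hb2 using h1
        refine ⟨∏ i ∈ S.erase i0, b i, ?_, ?_⟩
        · intro h
          obtain ⟨i, hi, hi'⟩ := (Ideal.IsPrime.prod_mem_iff (p := p i0)).1 h
          exact hb2 i hi hi'
        · intro i hi
          rw [← Finset.mul_prod_erase _ _ hi]
          exact Ideal.mul_mem_right _ _ (hb1 i hi)
      obtain ⟨b, hb0, hb⟩ := hb
      refine ⟨a + b • Pi.single l0 1, ?_⟩
      have hsum : ∀ i, ∑ l, c i l * (a + b • (Pi.single l0 1 : Fin k → R)) l - e i =
          (∑ l, c i l * a l - e i) + c i l0 * b := by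
        intro i
        have h1 : ∑ l, c i l * (a + b • (Pi.single l0 1 : Fin k → R)) l =
            ∑ l, c i l * a l + ∑ l, c i l * (b * (Pi.single l0 1 : Fin k → R) l) := by
          rw [← Finset.sum_add_distrib]
          refine Finset.sum_congr rfl (fun l _ => ?_)
          rw [Pi.add_apply, Pi.smul_apply, smul_eq_mul]
          ring
        have h2 : ∑ l, c i l * (b * (Pi.single l0 1 : Fin k → R) l) = c i l0 * b := by
          rw [Finset.sum_eq_single l0]
          · simp
          · intro l _ hl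
            simp [hl]
          · intro h; exact absurd (Finset.mem_univ _) h
        rw [h1, h2]
        ring
      intro i hi
      rw [hsum]
      by_cases hii : i = i0
      · subst hii
        intro h
        have h2 := Ideal.sub_mem _ h h0
        rw [add_sub_cancel_left] at h2
        rcases Ideal.IsPrime.mem_or_mem inferInstance h2 with h3 | h3
        · exact hl0 h3
        · exact hb0 h3
      · intro h
        have h2 := Ideal.sub_mem _ h (Ideal.mul_mem_left _ (c i l0) (hb i (Finset.mem_erase.2 ⟨hii, hi⟩)))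
        rw [add_sub_cancel_right] at h2
        exact ha i (Finset.mem_erase.2 ⟨hii, hi⟩) h2
    · refine ⟨a, fun i hi => ?_⟩
      by_cases hii : i = i0
      · rw [hii]; exact h0
      · exact ha i (Finset.mem_erase.2 ⟨hii, hi⟩)

section reduce

variable {R : Type u} [CommRing R] {M : Type v} [AddCommGroup M] [Module R M]
  {ι : Type w} [PartialOrder ι] (p : ι → Ideal R) [∀ i, (p i).IsPrime]

include p in
/-- Removing one generator. -/
theorem reduce (hinj : Function.Injective p) (h : ι → ℕ) (hmono : StrictMono h)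
    (hfin : ∀ (N : Submodule R M) (_ : N.FG) (j : ℕ), ∃ S : Finset ι,
      (∀ T ∈ S, rk (p T) N ≤ j) ∧ ∀ Z, rk (p Z) N ≤ j → ∃ T ∈ S, Z ≤ T)
    (k : ℕ) (s : Fin (k + 1) → M)
    (hs : ∀ Z, min (k + 1) (h Z + 1) ≤ rk (p Z) (Submodule.span R (Set.range s))) :
    ∃ s' : Fin k → M, ∀ Z, min k (h Z + 1) ≤ rk (p Z) (Submodule.span R (Set.range s')) := by
  classical
  let N := Submodule.span R (Set.range s)
  have hN : N.FG := Submodule.fg_span (Set.finite_range s)
  choose S hS1 hS2 using hfin N hN
  let 𝒵 : Finset ι := (Finset.range (k + 1)).biUnion S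
  have h𝒵 : ∀ T ∈ 𝒵, rk (p T) N < k + 1 := by
    intro T hT
    obtain ⟨j, hj, hTj⟩ := Finset.mem_biUnion.1 hT
    exact lt_of_le_of_lt (hS1 j T hTj) (Finset.mem_range.1 hj)
  have hrel : ∀ T ∈ 𝒵, ∃ c : Fin (k + 1) → R, (∃ i, c i ∉ p T) ∧ ev (p T) (∑ i, c i • s i) = 0 :=
    fun T hT => exists_relation (p T) s (h𝒵 T hT)
  choose! C hC1 hC2 using hrel
  obtain ⟨a, ha⟩ := exists_avoid p (fun T l => C T l.castSucc) (fun T => C T (Fin.last k)) _ 𝒵 rfl
    hinj.injOn (by
      intro T hT
      obtain ⟨i, hi⟩ := hC1 T hT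
      revert hi
      refine Fin.lastCases (fun h => Or.inr h) (fun i h => Or.inl ⟨i, h⟩) i)
  let s' : Fin k → M := fun i => s i.castSucc + a i • s (Fin.last k)
  let N' := Submodule.span R (Set.range s')
  have hN' : N'.FG := Submodule.fg_span (Set.finite_range s')
  have hNN' : N' ⊔ Submodule.span R {s (Fin.last k)} = N := by
    apply le_antisymm
    · apply sup_le
      · rw [Submodule.span_le]
        rintro _ ⟨i, rfl⟩
        exact N.add_mem (Submodule.subset_span ⟨_, rfl⟩)
          (N.smul_mem _ (Submodule.subset_span ⟨_, rfl⟩))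
      · rw [Submodule.span_singleton_le_iff_mem]
        exact Submodule.subset_span ⟨_, rfl⟩
    · rw [Submodule.span_le]
      rintro _ ⟨i, rfl⟩
      refine Fin.lastCases ?_ (fun i => ?_) i
      · exact Submodule.mem_sup_right (Submodule.mem_span_singleton_self _)
      · have h1 : s i.castSucc = s' i - a i • s (Fin.last k) := by simp [s']
        have h2 : s' i ∈ N' := Submodule.subset_span ⟨i, rfl⟩
        rw [SetLike.mem_coe, h1]
        exact Submodule.sub_mem _ (Submodule.mem_sup_left h2)
          (Submodule.smul_mem _ _ (Submodule.mem_sup_right (Submodule.mem_span_singleton_self _)))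
  -- at the special primes the rank does not drop
  have hkey : ∀ T ∈ 𝒵, rk (p T) N = rk (p T) N' := by
    intro T hT
    rw [← hNN']
    apply rk_sup_span_singleton_eq (p T) (s (Fin.last k)) _ (ha T hT)
      (∑ l : Fin k, C T l.castSucc • s' l)
      (Submodule.sum_mem _ (fun l _ => Submodule.smul_mem _ _
        (show s' l ∈ N' from Submodule.subset_span ⟨l, rfl⟩)))
    have h1 : (∑ l : Fin k, C T l.castSucc * a l - C T (Fin.last k)) • s (Fin.last k) -
        ∑ l : Fin k, C T l.castSucc • s' l = - ∑ i, C T i • s i := by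
      rw [Fin.sum_univ_castSucc]
      simp only [s', smul_add, Finset.sum_add_distrib, sub_smul, Finset.sum_smul, smul_smul]
      abel
    rw [h1, map_neg, hC2 T hT, neg_zero]
  refine ⟨s', fun Z => ?_⟩
  by_contra hcon
  push Not at hcon
  have h1 : rk (p Z) N ≤ rk (p Z) N' + 1 := by
    rw [← hNN']
    exact rk_sup_span_singleton_le (p Z) hN' _
  have h2 := hs Z
  change min (k + 1) (h Z + 1) ≤ rk (p Z) N at h2
  change rk (p Z) N' < min k (h Z + 1) at hcon
  -- numerical consequences
  have h3 : rk (p Z) N ≤ k := by omega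
  have h4 : rk (p Z) N = h Z + 1 := by omega
  obtain ⟨T, hT, hZT⟩ := hS2 (rk (p Z) N) Z le_rfl
  have hT𝒵 : T ∈ 𝒵 := Finset.mem_biUnion.2 ⟨_, Finset.mem_range.2 (Nat.lt_succ_of_le h3), hT⟩
  have h5 : rk (p T) N ≤ rk (p Z) N := hS1 _ T hT
  have h6 := hs T
  change min (k + 1) (h T + 1) ≤ rk (p T) N at h6
  have h7 : h T ≤ h Z := by omega
  have h8 : Z = T := by
    rcases eq_or_lt_of_le hZT with h9 | h9
    · exact h9
    · exact absurd (hmono h9) (not_lt.2 h7)
  subst h8
  have h10 := hkey Z hT𝒵
  omega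

include p in
/-- Down to one generator. -/
theorem exists_one (hinj : Function.Injective p) (h : ι → ℕ) (hmono : StrictMono h)
    (hfin : ∀ (N : Submodule R M) (_ : N.FG) (j : ℕ), ∃ S : Finset ι,
      (∀ T ∈ S, rk (p T) N ≤ j) ∧ ∀ Z, rk (p Z) N ≤ j → ∃ T ∈ S, Z ≤ T) :
    ∀ (k : ℕ) (s : Fin (k + 1) → M)
      (_ : ∀ Z, min (k + 1) (h Z + 1) ≤ rk (p Z) (Submodule.span R (Set.range s))),
      ∃ s0 : M, ∀ Z, 1 ≤ rk (p Z) (Submodule.span R {s0}) := by
  intro k
  induction k with
  | zero =>
    intro s hs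
    refine ⟨s 0, fun Z => ?_⟩
    have h1 : Set.range s = {s 0} := by
      ext x
      constructor
      · rintro ⟨i, rfl⟩
        rw [Fin.fin_one_eq_zero i]; rfl
      · rintro rfl; exact ⟨0, rfl⟩
    rw [← h1]
    refine le_trans ?_ (hs Z)
    omega
  | succ k ih =>
    intro s hs
    obtain ⟨s', hs'⟩ := reduce p hinj h hmono hfin (k + 1) s hs
    exact ih s' hs'

end reduce

end K65.SerreReduce
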