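import Groth.Agent.CAlg.K65.SerreReduce
import Mathlib.RingTheory.Spectrum.Maximal.Topology
import Mathlib.Topology.NoetherianSpace
import Mathlib.Topology.KrullDimension
import Mathlib.Algebra.Module.FinitePresentation
import Mathlib.RingTheory.Localization.AtPrime.Basic
import Mathlib.LinearAlgebra.Matrix.Diagonal

/-!
Serre's splitting theorem: topology of the maximal spectrum.
-/

set_option autoImplicit false
universe u v w

namespace K65.SerreSplit

open K65.SerreRank K65.SerreReduce TopologicalSpace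

variable {R : Type u} [CommRing R]

/-- The ideal of functions vanishing on a closed set of maximal ideals. -/
def I (Z : IrreducibleCloseds (MaximalSpectrum R)) : Ideal R :=
  ⨅ m : (Z : Set (MaximalSpectrum R)), m.1.asIdeal

theorem mem_I {Z : IrreducibleCloseds (MaximalSpectrum R)} {r : R} :
    r ∈ I Z ↔ ∀ m ∈ Z, r ∈ m.asIdeal := by
  unfold I
  rw [Submodule.mem_iInf]
  exact ⟨fun h m hm => h ⟨m, hm⟩, fun h m => h m.1 m.2⟩

theorem isOpen_not_mem (r : R) : IsOpen {m : MaximalSpectrum R | r ∉ m.asIdeal} := by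
  have h1 : {m : MaximalSpectrum R | r ∉ m.asIdeal} =
      MaximalSpectrum.toPrimeSpectrum ⁻¹' (PrimeSpectrum.basicOpen r : Set (PrimeSpectrum R)) := by
    ext m
    rfl
  rw [h1]
  exact (PrimeSpectrum.isOpen_basicOpen).preimage MaximalSpectrum.toPrimeSpectrum_continuous

theorem isClosed_mem (r : R) : IsClosed {m : MaximalSpectrum R | r ∈ m.asIdeal} := by
  rw [← isOpen_compl_iff]
  exact isOpen_not_mem r

instance isPrime_I (Z : IrreducibleCloseds (MaximalSpectrum R)) : (I Z).IsPrime := by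
  obtain ⟨m0, hm0⟩ := Z.isIrreducible.nonempty
  constructor
  · intro h
    have h1 : (1 : R) ∈ I Z := by rw [h]; trivial
    exact m0.isMaximal.ne_top ((Ideal.eq_top_iff_one _).2 (mem_I.1 h1 m0 hm0))
  · intro a b hab
    by_contra hcon
    push Not at hcon
    obtain ⟨ha, hb⟩ := hcon
    rw [mem_I] at ha hb
    push Not at ha hb
    obtain ⟨m1, hm1, ha⟩ := ha
    obtain ⟨m2, hm2, hb⟩ := hb
    obtain ⟨m, hm, hma, hmb⟩ := Z.isIrreducible.2 _ _ (isOpen_not_mem a) (isOpen_not_mem b)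
      ⟨m1, hm1, ha⟩ ⟨m2, hm2, hb⟩
    have hmp : m.asIdeal.IsPrime := m.isMaximal.isPrime
    rcases hmp.mem_or_mem (mem_I.1 hab m hm) with h | h
    · exact hma h
    · exact hmb h

theorem I_le {Z : IrreducibleCloseds (MaximalSpectrum R)} {m : MaximalSpectrum R} (hm : m ∈ Z) :
    I Z ≤ m.asIdeal := fun _ hr => mem_I.1 hr m hm

theorem le_of_I_le {Z W : IrreducibleCloseds (MaximalSpectrum R)} (h : I Z ≤ I W) : W ≤ Z := by
  intro m hm
  -- `Z` is closed
  obtain ⟨C, hC, hCZ⟩ := isClosed_induced_iff.1 Z.isClosed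
  obtain ⟨s, rfl⟩ := (PrimeSpectrum.isClosed_iff_zeroLocus C).1 hC
  have h1 : s ⊆ I Z := by
    intro r hr
    rw [SetLike.mem_coe, mem_I]
    intro m' hm'
    have h2 : m' ∈ MaximalSpectrum.toPrimeSpectrum ⁻¹' PrimeSpectrum.zeroLocus s := by
      rw [hCZ]; exact hm'
    exact h2 hr
  have h2 : m ∈ MaximalSpectrum.toPrimeSpectrum ⁻¹' PrimeSpectrum.zeroLocus s :=
    fun r hr => I_le hm (h (h1 hr))
  rw [hCZ] at h2
  exact h2

theorem I_injective : Function.Injective (I (R := R)) := fun _ _ h =>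
  le_antisymm (le_of_I_le h.ge) (le_of_I_le h.le)

instance (m : MaximalSpectrum R) : m.asIdeal.IsPrime := m.isMaximal.isPrime

variable {M : Type v} [AddCommGroup M] [Module R M]

theorem rk_I_le_iff (Z : IrreducibleCloseds (MaximalSpectrum R)) {N : Submodule R M} (hN : N.FG)
    (j : ℕ) : rk (I Z) N ≤ j ↔ ∀ m ∈ Z, rk m.asIdeal N ≤ j := by
  constructor
  · intro h m hm
    by_contra hcon
    push Not at hcon
    obtain ⟨y, φ, hy, hdet⟩ := (le_rk_iff m.asIdeal hN (j + 1)).1 hcon
    have h1 : j + 1 ≤ rk (I Z) N := (le_rk_iff (I Z) hN (j + 1)).2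
      ⟨y, φ, hy, fun h2 => hdet (I_le hm h2)⟩
    omega
  · intro h
    by_contra hcon
    push Not at hcon
    obtain ⟨y, φ, hy, hdet⟩ := (le_rk_iff (I Z) hN (j + 1)).1 hcon
    rw [mem_I] at hdet
    push Not at hdet
    obtain ⟨m, hm, hdet⟩ := hdet
    have h1 : j + 1 ≤ rk m.asIdeal N := (le_rk_iff m.asIdeal hN (j + 1)).2 ⟨y, φ, hy, hdet⟩
    have h2 := h m hm
    omega

theorem isClosed_rk_le {N : Submodule R M} (hN : N.FG) (j : ℕ) :
    IsClosed {m : MaximalSpectrum R | rk m.asIdeal N ≤ j} := by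
  rw [← isOpen_compl_iff, isOpen_iff_forall_mem_open]
  intro m hm
  have h1 : j + 1 ≤ rk m.asIdeal N := by
    by_contra hcon
    exact hm (by show rk m.asIdeal N ≤ j; omega)
  obtain ⟨y, φ, hy, hdet⟩ := (le_rk_iff m.asIdeal hN (j + 1)).1 h1
  refine ⟨_, ?_, isOpen_not_mem _, hdet⟩
  intro m' hm' hcon
  have h2 : j + 1 ≤ rk m'.asIdeal N := (le_rk_iff m'.asIdeal hN (j + 1)).2 ⟨y, φ, hy, hm'⟩
  have h3 : rk m'.asIdeal N ≤ j := hcon
  omega

theorem exists_finset_cover [NoetherianSpace (MaximalSpectrum R)] {N : Submodule R M} (hN : N.FG)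
    (j : ℕ) : ∃ S : Finset (IrreducibleCloseds (MaximalSpectrum R)),
      (∀ T ∈ S, rk (I T) N ≤ j) ∧ ∀ Z, rk (I Z) N ≤ j → ∃ T ∈ S, Z ≤ T := by
  classical
  obtain ⟨S, hSf, hSc, hSi, hS⟩ := NoetherianSpace.exists_finite_set_isClosed_irreducible
    (isClosed_rk_le (R := R) hN j)
  let f : S → IrreducibleCloseds (MaximalSpectrum R) := fun t => ⟨t.1, hSi t.1 t.2, hSc t.1 t.2⟩
  have hfin : Finite S := hSf
  let : Fintype S := Fintype.ofFinite S
  refine ⟨Finset.univ.image f, ?_, ?_⟩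
  · intro T hT
    obtain ⟨t, _, rfl⟩ := Finset.mem_image.1 hT
    rw [rk_I_le_iff _ hN]
    intro m hm
    have h1 : m ∈ ⋃₀ S := ⟨t.1, t.2, hm⟩
    rw [← hS] at h1
    exact h1
  · intro Z hZ
    rw [rk_I_le_iff _ hN] at hZ
    have h1 : (Z : Set (MaximalSpectrum R)) ⊆ ⋃₀ (hSf.toFinset : Set (Set (MaximalSpectrum R))) := by
      rw [hSf.coe_toFinset, ← hS]
      exact hZ
    obtain ⟨t, ht, hZt⟩ := isIrreducible_iff_sUnion_isClosed.1 Z.isIrreducible hSf.toFinset
      (fun z hz => hSc z (hSf.mem_toFinset.1 hz)) h1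
    exact ⟨f ⟨t, hSf.mem_toFinset.1 ht⟩, Finset.mem_image_of_mem _ (Finset.mem_univ _), hZt⟩

/-- The closed point as an irreducible closed set. -/
def pt (m : MaximalSpectrum R) : IrreducibleCloseds (MaximalSpectrum R) :=
  ⟨{m}, isIrreducible_singleton, isClosed_singleton⟩

theorem I_pt (m : MaximalSpectrum R) : I (pt m) = m.asIdeal := by
  ext r
  rw [mem_I]
  constructor
  · intro h; exact h m rfl
  · intro h m' hm'
    have : m' = m := hm'
    rw [this]; exact h

/-- Serre's splitting theorem, in terms of ranks. -/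
theorem exists_unimodular [NoetherianSpace (MaximalSpectrum R)] (d : ℕ)
    (hdim : topologicalKrullDim (MaximalSpectrum R) ≤ d) [Module.Finite R M]
    (hM : ∀ m : MaximalSpectrum R, d + 1 ≤ rk m.asIdeal (⊤ : Submodule R M)) :
    ∃ (s : M) (φ : M →ₗ[R] R), φ s = 1 := by
  have htop : (⊤ : Submodule R M).FG := Module.Finite.fg_top
  let h : IrreducibleCloseds (MaximalSpectrum R) → ℕ := fun Z => (Order.height Z).toNat
  have hle : ∀ Z : IrreducibleCloseds (MaximalSpectrum R), Order.height Z ≤ d := by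
    intro Z
    have h1 : (Order.height Z : WithBot ℕ∞) ≤ d := (Order.height_le_krullDim Z).trans hdim
    exact_mod_cast h1
  have hne : ∀ Z : IrreducibleCloseds (MaximalSpectrum R), Order.height Z ≠ ⊤ := fun Z h1 => by
    have h2 := hle Z
    rw [h1] at h2
    exact absurd (top_le_iff.1 h2) (ENat.natCast_ne_top d)
  have hcoe : ∀ Z, ((h Z : ℕ) : ℕ∞) = Order.height Z := fun Z => ENat.natCast_toNat (hne Z)
  have hmono : StrictMono h := by
    intro Z W hZW
    have h1 := Order.height_strictMono hZW (lt_top_iff_ne_top.2 (hne Z))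
    rw [← hcoe, ← hcoe] at h1
    exact_mod_cast h1
  have hhd : ∀ Z, h Z ≤ d := fun Z => by
    have h1 := hle Z
    rw [← hcoe] at h1
    exact_mod_cast h1
  obtain ⟨n, s, hs⟩ := Module.Finite.exists_fin (R := R) (M := M)
  have hspan : Submodule.span R (Set.range (Fin.cons 0 s : Fin (n + 1) → M)) = ⊤ := by
    rw [eq_top_iff, ← hs]
    apply Submodule.span_mono
    rintro _ ⟨i, rfl⟩
    exact ⟨i.succ, rfl⟩
  have hrk : ∀ Z : IrreducibleCloseds (MaximalSpectrum R), h Z + 1 ≤ rk (I Z) (⊤ : Submodule R M) := by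
    intro Z
    obtain ⟨m, hm⟩ := Z.isIrreducible.nonempty
    obtain ⟨y, φ, hy, hdet⟩ := (le_rk_iff m.asIdeal htop (d + 1)).1 (hM m)
    have h1 : d + 1 ≤ rk (I Z) (⊤ : Submodule R M) := (le_rk_iff (I Z) htop (d + 1)).2
      ⟨y, φ, hy, fun h2 => hdet (I_le hm h2)⟩
    have h2 := hhd Z
    omega
  obtain ⟨s0, hs0⟩ := exists_one (M := M) I I_injective h hmono
    (fun N hN j => exists_finset_cover hN j) n (Fin.cons 0 s) (fun Z => by
      rw [hspan]
      exact (min_le_right _ _).trans (hrk Z))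
  -- the order ideal of `s0`
  let O : Ideal R := LinearMap.range ((LinearMap.applyₗ s0 : (M →ₗ[R] R) →ₗ[R] R))
  suffices hO : O = ⊤ by
    have h1 : (1 : R) ∈ O := by rw [hO]; trivial
    obtain ⟨φ, hφ⟩ := h1
    exact ⟨s0, φ, hφ⟩
  by_contra hneO
  obtain ⟨m, hm, hOm⟩ := Ideal.exists_le_maximal O hneO
  let m' : MaximalSpectrum R := ⟨m, hm⟩
  obtain ⟨y, φ, hy, hdet⟩ := (le_rk_iff (I (pt m')) (Submodule.fg_span_singleton s0) 1).1 (hs0 (pt m'))
  rw [I_pt, Matrix.det_fin_one] at hdet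
  obtain ⟨c, hc⟩ := Submodule.mem_span_singleton.1 (hy 0)
  apply hdet
  show φ 0 (y 0) ∈ m
  rw [← hc, map_smul, smul_eq_mul]
  exact Ideal.mul_mem_left _ _ (hOm ⟨φ 0, rfl⟩)

/-- A free summand of rank `n` at a maximal ideal gives rank at least `n`. -/
theorem le_rk_of_summand [Module.FinitePresentation R M] (m : Ideal R) [m.IsMaximal] (n : ℕ)
    (f : (Fin n → Localization.AtPrime m) →ₗ[Localization.AtPrime m] LocalizedModule m.primeCompl M)
    (g : LocalizedModule m.primeCompl M →ₗ[Localization.AtPrime m] (Fin n → Localization.AtPrime m))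
    (hgf : g ∘ₗ f = LinearMap.id) : n ≤ rk m (⊤ : Submodule R M) := by
  classical
  let Rm := Localization.AtPrime m
  let L := LocalizedModule.mkLinearMap m.primeCompl M
  rw [le_rk_iff m Module.Finite.fg_top]
  -- lifts of the basis vectors
  have h1 : ∀ j : Fin n, ∃ (x : M) (t : m.primeCompl),
      (t : R) • f (Pi.single j 1) = L x := by
    intro j
    obtain ⟨⟨x, t⟩, hxt⟩ := IsLocalizedModule.surj m.primeCompl L (f (Pi.single j 1))
    exact ⟨x, t, hxt⟩
  choose x t hxt using h1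
  -- lifts of the coordinates
  have h2 : ∀ i : Fin n, ∃ (φ : M →ₗ[R] R) (u : m.primeCompl), ∀ z,
      algebraMap R Rm (φ z) = (u : R) • g (L z) i := by
    intro i
    obtain ⟨φ, u, hφ⟩ := Module.FinitePresentation.exists_lift_of_isLocalizedModule m.primeCompl
      (Algebra.linearMap R Rm) ((LinearMap.proj i ∘ₗ g).restrictScalars R ∘ₗ L)
    exact ⟨φ, u, fun z => LinearMap.congr_fun hφ z⟩
  choose φ u hφ using h2
  refine ⟨x, φ, fun _ => trivial, ?_⟩
  have h3 : ∀ i j, algebraMap R Rm (φ i (x j)) =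
      algebraMap R Rm ((u i : R) * t j) * (if i = j then 1 else 0) := by
    intro i j
    rw [hφ, ← hxt]
    have h4 : g ((t j : R) • f (Pi.single j 1)) = (t j : R) • (Pi.single j 1 : Fin n → Rm) := by
      have h5 := (g.restrictScalars R).map_smul (t j : R) (f (Pi.single j 1))
      refine h5.trans ?_
      congr 1
      exact LinearMap.congr_fun hgf (Pi.single j 1)
    rw [h4, Pi.smul_apply, smul_smul, Algebra.smul_def, Pi.single_apply]
  have h4 : algebraMap R Rm (Matrix.of fun i l => φ i (x l)).det =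
      ∏ i, algebraMap R Rm ((u i : R) * t i) := by
    rw [RingHom.map_det, ← Matrix.det_diagonal]
    congr 1
    ext i j
    rw [RingHom.mapMatrix_apply, Matrix.map_apply, Matrix.of_apply, h3, Matrix.diagonal_apply]
    by_cases hij : i = j
    · subst hij; simp
    · simp [hij]
  intro hmem
  have h5 : IsUnit (algebraMap R Rm (Matrix.of fun i l => φ i (x l)).det) := by
    rw [h4]
    apply IsUnit.prod_univ_iff.2
    intro i
    exact IsLocalization.map_units Rm (u i * t i)
  exact (IsLocalization.AtPrime.isUnit_to_map_iff Rm m _).1 h5 hmem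

end K65.SerreSplit
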