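import Mathlib

set_option autoImplicit false
universe u

namespace K65.SopCount

open IsLocalRing

variable {R : Type u} [CommRing R]

/-- `N` contains `K` and is saturated for the elements outside all the primes in `s`. -/
def Good (s : Set (Ideal R)) (K N : Ideal R) : Prop :=
  K ≤ N ∧ ∀ w, (∀ q ∈ s, w ∉ q) → ∀ y, w * y ∈ N → y ∈ N

theorem coheight_eq (q : Ideal R) [hq : q.IsPrime] :
    (Order.coheight (⟨q, hq⟩ : PrimeSpectrum R) : WithBot ℕ∞) = ringKrullDim (R ⧸ q) := by
  rw [ringKrullDim_quotient, Order.coheight_eq_krullDim_Ici]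
  rfl

theorem coheight_prime_le [IsNoetherianRing R] [IsLocalRing R] {d : ℕ} (q : Ideal R)
    [hq : q.IsPrime] (g : Fin d → R) (hgm : ∀ i, g i ∈ maximalIdeal R)
    (hg : maximalIdeal R ≤ (q ⊔ Ideal.span (Set.range g)).radical) :
    Order.coheight (⟨q, hq⟩ : PrimeSpectrum R) ≤ d := by
  have hqm : q ≤ maximalIdeal R := le_maximalIdeal hq.ne_top
  have : Nontrivial (R ⧸ q) := Ideal.Quotient.nontrivial_iff.mpr hq.ne_top
  have : IsLocalRing (R ⧸ q) :=
    IsLocalRing.of_surjective' (Ideal.Quotient.mk q) Ideal.Quotient.mk_surjective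
  have hloc : IsLocalHom (Ideal.Quotient.mk q) :=
    IsLocalHom.of_surjective _ Ideal.Quotient.mk_surjective
  have key : (maximalIdeal (R ⧸ q)).height ≤ d := by
    have hmin : maximalIdeal (R ⧸ q) ∈
        (Ideal.span (Set.range (Ideal.Quotient.mk q ∘ g))).minimalPrimes := by
      refine ⟨⟨inferInstance, ?_⟩, ?_⟩
      · rw [Ideal.span_le]
        rintro _ ⟨i, rfl⟩
        have : g i ∈ maximalIdeal R := hgm i
        simp only [Function.comp_apply, SetLike.mem_coe, mem_maximalIdeal, mem_nonunits_iff,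
          isUnit_map_iff (Ideal.Quotient.mk q)] at this ⊢
        exact this
      · rintro p ⟨hp, hpg⟩ -
        intro y hy
        obtain ⟨a, rfl⟩ := Ideal.Quotient.mk_surjective y
        have ha : a ∈ maximalIdeal R := by
          rw [mem_maximalIdeal, mem_nonunits_iff, isUnit_map_iff (Ideal.Quotient.mk q)] at hy
          exact hy
        obtain ⟨k, hk⟩ := hg ha
        have h3 : q ⊔ Ideal.span (Set.range g) ≤ p.comap (Ideal.Quotient.mk q) := by
          refine sup_le ?_ ?_
          · intro z hz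
            rw [Ideal.mem_comap, Ideal.Quotient.eq_zero_iff_mem.mpr hz]
            exact p.zero_mem
          · rw [Ideal.span_le]
            rintro _ ⟨i, rfl⟩
            exact hpg (Ideal.subset_span ⟨i, rfl⟩)
        have h4 := h3 hk
        rw [Ideal.mem_comap, map_pow] at h4
        exact hp.mem_of_pow_mem _ h4
    refine (Ideal.height_le_card_of_mem_minimalPrimes_span (Set.finite_range _) hmin).trans ?_
    have : (Set.range (Ideal.Quotient.mk q ∘ g)).ncard ≤ d := by
      rw [← Set.image_univ]
      refine (Set.ncard_image_le (Set.finite_univ)).trans ?_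
      simp [Set.ncard_univ]
    exact_mod_cast this
  have h1 := coheight_eq q
  rw [← maximalIdeal_height_eq_ringKrullDim] at h1
  have h2 : Order.coheight (⟨q, hq⟩ : PrimeSpectrum R) = (maximalIdeal (R ⧸ q)).height := by
    exact_mod_cast h1
  rw [h2]
  exact key

theorem exists_prime_coheight [IsNoetherianRing R] [IsLocalRing R] {d : ℕ} (q : Ideal R)
    [hq : q.IsPrime] (x : R) (hx : x ∈ maximalIdeal R)
    (h : ((d + 1 : ℕ) : ℕ∞) ≤ Order.coheight (⟨q, hq⟩ : PrimeSpectrum R)) :
    ∃ p : PrimeSpectrum R, q ≤ p.asIdeal ∧ x ∈ p.asIdeal ∧ (d : ℕ∞) ≤ Order.coheight p := by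
  obtain ⟨c, hc0, hcl⟩ := Order.exists_series_of_le_coheight _ h
  -- replace the last term by the maximal ideal
  obtain ⟨c', hc'0, hc'l, hxc'⟩ : ∃ c' : LTSeries (PrimeSpectrum R),
      c'.head = ⟨q, hq⟩ ∧ c'.length = d + 1 ∧ x ∈ c'.last.asIdeal := by
    have hmax : c.last ≤ IsLocalRing.closedPoint R := le_maximalIdeal c.last.isPrime.ne_top
    rcases hmax.lt_or_eq with hlt | heq
    · have hpos : 0 < c.length := by omega
      have hlt2 : c.eraseLast.last < IsLocalRing.closedPoint R :=
        lt_trans (c.eraseLast_last_rel_last (by omega)) hlt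
      refine ⟨c.eraseLast.snoc (IsLocalRing.closedPoint R) hlt2, ?_, ?_, ?_⟩
      · simp [hc0]
      · simp [hcl]
      · simpa using! hx
    · refine ⟨c, hc0, hcl, ?_⟩
      rw [heq]
      exact hx
  obtain ⟨Q, hxQ, hQl, hQh, hQlast⟩ := PrimeSpectrum.exist_ltSeries_mem_one_of_mem_last c' hxc'
  have hQlen : Q.length = d + 1 := by omega
  refine ⟨Q 1, ?_, hxQ, ?_⟩
  · have : Q.head ≤ Q 1 := Q.monotone (Fin.zero_le _)
    rw [← hQh, hc'0] at this
    exact this
  · have := Order.rev_index_le_coheight Q 1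
    refine le_trans ?_ this
    have h1 : ((1 : Fin (Q.length + 1)) : ℕ) = 1 := by
      rw [Fin.val_one', Nat.mod_eq_of_lt]
      omega
    have : ((1 : Fin (Q.length + 1)).rev : ℕ) = d := by
      rw [Fin.val_rev, h1]
      omega
    rw [this]

theorem coheight_good_le [IsNoetherianRing R] [IsLocalRing R] (d : ℕ) :
    ∀ (K : Ideal R) (g : Fin d → R) (_ : ∀ i, g i ∈ maximalIdeal R) (s : Set (Ideal R))
      (_ : ∀ q ∈ s, K ≤ q ∧ ∃ hq : q.IsPrime, (d : ℕ∞) ≤ Order.coheight (⟨q, hq⟩ : PrimeSpectrum R))
      (_ : maximalIdeal R ≤ (K ⊔ Ideal.span (Set.range g)).radical)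
      (N : {N : Ideal R // Good s K N}),
      Order.coheight N ≤ Order.coheight (K ⊔ Ideal.span (Set.range g)) := by
  induction d with
  | zero =>
    intro K g _ s hs _ N
    have h1 : (K ⊔ Ideal.span (Set.range g)) = K := by
      have : Set.range g = ∅ := Set.range_eq_empty g
      rw [this, Ideal.span_empty, sup_bot_eq]
    rw [h1]
    refine (Order.coheight_le_coheight_apply_of_strictMono
      (fun N : {N : Ideal R // Good s K N} ↦ (N : Ideal R)) (fun _ _ h ↦ h) N).trans ?_
    exact Order.coheight_anti N.2.1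
  | succ d ih =>
    intro K g hgm s hs hrad N
    -- elements of `s` do not contain `g 0`
    have hspan : Ideal.span (Set.range g) = Ideal.span {g 0} ⊔
        Ideal.span (Set.range (Fin.tail g)) := by
      rw [← Ideal.span_union]
      congr 1
      ext y
      simp only [Set.mem_range, Set.mem_union, Set.mem_singleton_iff, Fin.exists_fin_succ,
        Fin.tail]
      constructor
      · rintro (h | h)
        · exact Or.inl h.symm
        · exact Or.inr h
      · rintro (h | h)
        · exact Or.inl h.symm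
        · exact Or.inr h
    have hx : ∀ q ∈ s, g 0 ∉ q := by
      intro q hqs hxq
      obtain ⟨hKq, hq, hco⟩ := hs q hqs
      have h2 : maximalIdeal R ≤ (q ⊔ Ideal.span (Set.range (Fin.tail g))).radical := by
        refine hrad.trans (Ideal.radical_mono ?_)
        rw [hspan]
        refine sup_le (hKq.trans le_sup_left) (sup_le ?_ le_sup_right)
        rw [Ideal.span_singleton_le_iff_mem]
        exact Ideal.mem_sup_left hxq
      have h3 := coheight_prime_le q (Fin.tail g) (fun i ↦ hgm i.succ) h2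
      have h4 := hco.trans h3
      have h5 : d + 1 ≤ d := by exact_mod_cast h4
      omega
    -- choose primes above
    have hex : ∀ q : s, ∃ p : PrimeSpectrum R, q.1 ≤ p.asIdeal ∧ g 0 ∈ p.asIdeal ∧
        (d : ℕ∞) ≤ Order.coheight p := by
      rintro ⟨q, hqs⟩
      obtain ⟨hKq, hq, hco⟩ := hs q hqs
      exact exists_prime_coheight q (g 0) (hgm 0) hco
    choose π hπ1 hπ2 hπ3 using hex
    let s' : Set (Ideal R) := Set.range fun q : s ↦ (π q).asIdeal
    let K' : Ideal R := K ⊔ Ideal.span {g 0}
    have hKK : K' ⊔ Ideal.span (Set.range (Fin.tail g)) = K ⊔ Ideal.span (Set.range g) := by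
      rw [hspan, sup_assoc]
    have hs' : ∀ q ∈ s', K' ≤ q ∧ ∃ hq : q.IsPrime,
        (d : ℕ∞) ≤ Order.coheight (⟨q, hq⟩ : PrimeSpectrum R) := by
      rintro _ ⟨q, rfl⟩
      refine ⟨sup_le ((hs q.1 q.2).1.trans (hπ1 q)) ?_, (π q).isPrime, hπ3 q⟩
      rw [Ideal.span_singleton_le_iff_mem]
      exact hπ2 q
    have hprime' : ∀ q ∈ s', q.IsPrime := fun q hq ↦ (hs' q hq).2.1
    -- the map
    let Φ : Ideal R → Ideal R := fun N ↦
      { carrier := {y | ∃ w, (∀ p ∈ s', w ∉ p) ∧ w * y ∈ N ⊔ Ideal.span {g 0}}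
        add_mem' := by
          rintro a b ⟨w, hw, ha⟩ ⟨v, hv, hb⟩
          refine ⟨w * v, fun p hp h ↦ ((hprime' p hp).mem_or_mem h).elim (hw p hp) (hv p hp), ?_⟩
          have : w * v * (a + b) = v * (w * a) + w * (v * b) := by ring
          rw [this]
          exact Ideal.add_mem _ (Ideal.mul_mem_left _ _ ha) (Ideal.mul_mem_left _ _ hb)
        zero_mem' := ⟨1, fun p hp h ↦ (hprime' p hp).ne_top ((Ideal.eq_top_iff_one _).2 h), by simp⟩
        smul_mem' := by
          rintro c a ⟨w, hw, ha⟩
          refine ⟨w, hw, ?_⟩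
          have : w * (c • a) = c * (w * a) := by rw [smul_eq_mul]; ring
          rw [this]
          exact Ideal.mul_mem_left _ _ ha }
    have hΦ : ∀ N y, y ∈ Φ N ↔ ∃ w, (∀ p ∈ s', w ∉ p) ∧ w * y ∈ N ⊔ Ideal.span {g 0} :=
      fun N y ↦ Iff.rfl
    have hone : ∀ p ∈ s', (1 : R) ∉ p := fun p hp h ↦
      (hprime' p hp).ne_top ((Ideal.eq_top_iff_one _).2 h)
    have hgood : ∀ N : {N : Ideal R // Good s K N}, Good s' K' (Φ N) := by
      rintro ⟨N, hKN, hN⟩
      constructor
      · intro y hy
        exact ⟨1, hone, by simpa using sup_le_sup_right hKN _ hy⟩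
      · rintro w hw y ⟨v, hv, hy⟩
        refine ⟨v * w, fun p hp h ↦ ((hprime' p hp).mem_or_mem h).elim (hv p hp) (hw p hp), ?_⟩
        rwa [mul_assoc]
    let F : {N : Ideal R // Good s K N} → {N : Ideal R // Good s' K' N} :=
      fun N ↦ ⟨Φ N, hgood N⟩
    have hF : StrictMono F := by
      intro N₁ N₂ hlt
      refine lt_of_le_not_ge ?_ ?_
      · rintro y ⟨w, hw, hy⟩
        have h0 : N₁.1 ≤ N₂.1 := hlt.le
        exact ⟨w, hw, sup_le_sup_right h0 (Ideal.span {g 0}) hy⟩
      · intro hle
        refine hlt.not_ge ?_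
        have hle' : ∀ y, y ∈ N₂.1 → ∃ w, (∀ p ∈ s', w ∉ p) ∧ w * y ∈ N₁.1 ⊔ Ideal.span {g 0} := by
          intro y hy
          have : y ∈ Φ N₂ := ⟨1, hone, by simpa using Ideal.mem_sup_left hy⟩
          exact hle this
        -- a common w
        have hcommon : ∃ w, (∀ p ∈ s', w ∉ p) ∧ ∀ y ∈ N₂.1, w * y ∈ N₁.1 ⊔ Ideal.span {g 0} := by
          obtain ⟨T, hT⟩ := IsNoetherian.noetherian (N₂.1 : Ideal R)
          have hTmem : ∀ t ∈ T, t ∈ N₂.1 := fun t ht ↦ by
            rw [← hT]; exact Submodule.subset_span ht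
          have hind : ∀ T' : Finset R, (∀ t ∈ T', t ∈ N₂.1) →
              ∃ w, (∀ p ∈ s', w ∉ p) ∧ ∀ t ∈ T', w * t ∈ N₁.1 ⊔ Ideal.span {g 0} := by
            classical
            intro T'
            induction T' using Finset.induction_on with
            | empty => exact fun _ ↦ ⟨1, hone, by simp⟩
            | insert a T' _ ih =>
              intro h
              obtain ⟨w, hw, hwT⟩ := ih fun t ht ↦ h t (Finset.mem_insert_of_mem ht)
              obtain ⟨v, hv, hva⟩ := hle' a (h a (Finset.mem_insert_self _ _))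
              refine ⟨w * v, fun p hp h ↦
                ((hprime' p hp).mem_or_mem h).elim (hw p hp) (hv p hp), ?_⟩
              intro t ht
              rcases Finset.mem_insert.1 ht with rfl | ht
              · rw [mul_assoc]
                exact Ideal.mul_mem_left _ _ hva
              · rw [mul_comm w v, mul_assoc]
                exact Ideal.mul_mem_left _ _ (hwT t ht)
          obtain ⟨w, hw, hwT⟩ := hind T hTmem
          refine ⟨w, hw, fun y hy ↦ ?_⟩
          rw [← hT] at hy
          have h5 : Submodule.span R (T : Set R) ≤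
              Submodule.comap (LinearMap.mulLeft R w) (N₁.1 ⊔ Ideal.span {g 0}) := by
            rw [Submodule.span_le]
            intro t ht
            exact hwT t ht
          exact h5 hy
        obtain ⟨w, hw, hwN⟩ := hcommon
        have hwN2 : ∀ y ∈ N₂.1, ∃ n ∈ N₁.1, ∃ r ∈ N₂.1, w * y = n + g 0 * r := by
          intro y hy
          obtain ⟨n, hn, z, hz, hnz⟩ := Submodule.mem_sup.1 (hwN y hy)
          obtain ⟨r, rfl⟩ := Ideal.mem_span_singleton.1 hz
          refine ⟨n, hn, r, ?_, hnz.symm⟩
          refine N₂.2.2 (g 0) hx r ?_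
          have : g 0 * r = w * y - n := by rw [← hnz]; ring
          rw [this]
          exact Ideal.sub_mem _ (Ideal.mul_mem_left _ _ hy) (hlt.le hn)
        -- Cayley-Hamilton
        obtain ⟨b, n, hb⟩ : ∃ (b : R) (n : ℕ), ∀ y ∈ N₂.1, (w ^ n + g 0 * b) * y ∈ N₁.1 := by
          let Q := (N₂.1 : Ideal R) ⧸ (Submodule.comap (N₂.1 : Ideal R).subtype (N₁.1 : Ideal R))
          have : Module.Finite R Q := inferInstance
          let f : Module.End R Q := algebraMap R (Module.End R Q) w
          have hf : LinearMap.range f ≤ (Ideal.span {g 0}) • (⊤ : Submodule R Q) := by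
            rintro _ ⟨z, rfl⟩
            obtain ⟨⟨y, hy⟩, rfl⟩ := Submodule.Quotient.mk_surjective _ z
            obtain ⟨n, hn, r, hr, hyr⟩ := hwN2 y hy
            have : f (Submodule.Quotient.mk ⟨y, hy⟩) =
                g 0 • (Submodule.Quotient.mk ⟨r, hr⟩ : Q) := by
              rw [Module.algebraMap_end_apply, ← Submodule.Quotient.mk_smul,
                ← Submodule.Quotient.mk_smul, Submodule.Quotient.eq]
              simp only [Submodule.mem_comap, Submodule.subtype_apply]
              change w * y - g 0 * r ∈ N₁.1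
              rw [hyr]
              simpa using hn
            rw [this]
            exact Submodule.smul_mem_smul (Ideal.mem_span_singleton_self _) trivial
          obtain ⟨P, hPm, -, hPc, hP⟩ :=
            LinearMap.exists_monic_and_natDegree_eq_and_coeff_mem_pow_and_aeval_eq_zero
              R f (Ideal.span {g 0}) hf
          have hev : Polynomial.aeval f P = algebraMap R (Module.End R Q) (P.eval w) := by
            rw [Polynomial.aeval_algebraMap_apply, Polynomial.coe_aeval_eq_eval]
          have hevw : ∃ b, P.eval w = w ^ P.natDegree + g 0 * b := by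
            have h6 : P.eval w = w ^ P.natDegree +
                ∑ k ∈ Finset.range P.natDegree, P.coeff k * w ^ k := by
              rw [Polynomial.eval_eq_sum_range, Finset.sum_range_succ, hPm.coeff_natDegree,
                one_mul, add_comm]
            have h7 : ∑ k ∈ Finset.range P.natDegree, P.coeff k * w ^ k ∈ Ideal.span {g 0} := by
              refine Submodule.sum_mem _ fun k hk ↦ Ideal.mul_mem_right _ _ ?_
              have h8 := hPc k
              have h9 : P.natDegree - k ≠ 0 := by
                have := Finset.mem_range.1 hk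
                omega
              exact Ideal.pow_le_self h9 h8
            obtain ⟨b, hb⟩ := Ideal.mem_span_singleton.1 h7
            exact ⟨b, by rw [h6, hb]⟩
          obtain ⟨b, hb⟩ := hevw
          refine ⟨b, P.natDegree, fun y hy ↦ ?_⟩
          have h10 : (Polynomial.aeval f P) (Submodule.Quotient.mk ⟨y, hy⟩ : Q) = 0 := by
            rw [hP]; rfl
          rw [hev, Module.algebraMap_end_apply, ← Submodule.Quotient.mk_smul,
            Submodule.Quotient.mk_eq_zero] at h10
          rw [← hb]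
          exact h10
        intro y hy
        refine N₁.2.2 (w ^ n + g 0 * b) ?_ y (hb y hy)
        intro q hq hmem
        have hp' : (π ⟨q, hq⟩).asIdeal ∈ s' := ⟨⟨q, hq⟩, rfl⟩
        have h11 : w ^ n + g 0 * b ∈ (π ⟨q, hq⟩).asIdeal := hπ1 ⟨q, hq⟩ hmem
        have h12 : w ^ n ∈ (π ⟨q, hq⟩).asIdeal := by
          have := Ideal.sub_mem _ h11 (Ideal.mul_mem_right b _ (hπ2 ⟨q, hq⟩))
          simpa using this
        exact hw _ hp' ((hprime' _ hp').mem_of_pow_mem _ h12)
    refine (Order.coheight_le_coheight_apply_of_strictMono F hF N).trans ?_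
    rw [← hKK]
    refine ih K' (Fin.tail g) (fun i ↦ hgm i.succ) s' hs' ?_ (F N)
    rw [hKK]
    exact hrad

theorem card_le_coheight (s : Set (Ideal R)) (hs : ∀ q ∈ s, q ∈ minimalPrimes R)
    (t : Finset (Ideal R)) (ht : (t : Set (Ideal R)) ⊆ s)
    (hgood : ∀ t : Finset (Ideal R), (t : Set (Ideal R)) ⊆ s → Good s ⊥ (t.inf id)) :
    (t.card : ℕ∞) ≤ Order.coheight (⟨t.inf id, hgood t ht⟩ : {N : Ideal R // Good s ⊥ N}) := by
  classical
  induction t using Finset.induction_on with
  | empty => simp
  | insert p t hpt ih =>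
    have ht' : (t : Set (Ideal R)) ⊆ s := fun q hq ↦ ht (Finset.mem_insert_of_mem hq)
    have hp : p ∈ minimalPrimes R := hs p (ht (Finset.mem_insert_self _ _))
    have hpp : p.IsPrime := hp.1.1
    rw [Finset.card_insert_of_notMem hpt]
    have hlt : (⟨(insert p t).inf id, hgood _ ht⟩ : {N : Ideal R // Good s ⊥ N}) <
        ⟨t.inf id, hgood _ ht'⟩ := by
      refine lt_of_le_not_ge ?_ ?_
      · change (insert p t).inf id ≤ t.inf id
        rw [Finset.inf_insert]
        exact inf_le_right
      · intro hle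
        have hle' : t.inf id ≤ (insert p t).inf id := hle
        rw [Finset.inf_insert] at hle'
        have h3 : t.inf id ≤ p := hle'.trans inf_le_left
        rw [hpp.inf_le'] at h3
        obtain ⟨q, hq, hqp⟩ := h3
        have hqm : q ∈ minimalPrimes R := hs q (ht' hq)
        have : q = p := le_antisymm hqp (hp.2 hqm.1 hqp)
        exact hpt (this ▸ hq)
    calc ((t.card + 1 : ℕ) : ℕ∞) = (t.card : ℕ∞) + 1 := by push_cast; rfl
      _ ≤ _ + 1 := by gcongr; exact ih ht'
      _ ≤ _ := Order.coheight_add_one_le hlt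

theorem card_minimalPrimes_le [IsNoetherianRing R] [IsLocalRing R]
    (d : ℕ) (g : Fin d → R) (hg : ∀ i, g i ∈ IsLocalRing.maximalIdeal R)
    (hsop : IsLocalRing.maximalIdeal R ≤ (Ideal.span (Set.range g)).radical) :
    (Set.ncard {p : Ideal R | p ∈ minimalPrimes R ∧ ringKrullDim (R ⧸ p) = d} : ℕ∞) ≤
      Module.length R (R ⧸ Ideal.span (Set.range g)) := by
  classical
  set s : Set (Ideal R) := {p : Ideal R | p ∈ minimalPrimes R ∧ ringKrullDim (R ⧸ p) = d}
  have hfin : s.Finite := (minimalPrimes.finite_of_isNoetherianRing R).subset fun p hp ↦ hp.1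
  have hsm : ∀ q ∈ s, q ∈ minimalPrimes R := fun q hq ↦ hq.1
  have hgood : ∀ t : Finset (Ideal R), (t : Set (Ideal R)) ⊆ s → Good s ⊥ (t.inf id) := by
    intro t ht
    refine ⟨bot_le, fun w hw y hwy ↦ ?_⟩
    rw [Submodule.mem_finsetInf] at hwy ⊢
    intro q hq
    have hqp : q.IsPrime := (hsm q (ht hq)).1.1
    exact (hqp.mem_or_mem (hwy q hq)).resolve_left (hw q (ht hq))
  have ht : (hfin.toFinset : Set (Ideal R)) ⊆ s := by simp
  have h1 := card_le_coheight s hsm hfin.toFinset ht hgood
  rw [← Set.ncard_eq_toFinset_card _ hfin] at h1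
  refine h1.trans ?_
  have h2 := coheight_good_le d ⊥ g hg s ?_ (by rwa [bot_sup_eq]) ⟨_, hgood _ ht⟩
  · rwa [bot_sup_eq, ← Module.length_quotient] at h2
  · intro q hq
    refine ⟨bot_le, hq.1.1.1, ?_⟩
    have := hq.1.1.1
    have h3 := coheight_eq q
    rw [hq.2] at h3
    have h4 : Order.coheight (⟨q, this⟩ : PrimeSpectrum R) = (d : ℕ∞) := by exact_mod_cast h3
    exact h4.ge

end K65.SopCount
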